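import Mathlib

/-!
# Finite modules over a complete Noetherian ring are complete (formal functions project)
-/

set_option autoImplicit false
universe u

namespace Groth.Agent.H9.FF

variable {R : Type u} [CommRing R] [IsNoetherianRing R] (I : Ideal R) [IsAdicComplete I R]
  (M : Type u) [AddCommGroup M] [Module R M] [Module.Finite R M]

/-- finite modules over a complete Noetherian ring are complete -/
theorem isAdicComplete_of_finite : IsAdicComplete I M := by
  haveI : IsHausdorff I M := IsHausdorff.of_le_jacobson I M (IsAdicComplete.le_jacobson_bot I)
  haveI : IsPrecomplete I M := by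
    rw [← AdicCompletion.of_surjective_iff]
    intro y
    obtain ⟨x, rfl⟩ := (AdicCompletion.ofTensorProductEquivOfFiniteNoetherian I M).surjective y
    induction x using TensorProduct.induction_on with
    | zero => exact ⟨0, by rw [map_zero, map_zero]⟩
    | add a b ha hb =>
      obtain ⟨m, hm⟩ := ha
      obtain ⟨m', hm'⟩ := hb
      exact ⟨m + m', by rw [map_add, map_add, hm, hm']⟩
    | tmul r m =>
      obtain ⟨r₀, rfl⟩ := AdicCompletion.of_surjective I R r
      refine ⟨r₀ • m, ?_⟩
      rw [AdicCompletion.ofTensorProductEquivOfFiniteNoetherian_apply,
        AdicCompletion.ofTensorProduct_tmul, map_smul]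
      have h1 : AdicCompletion.of I R r₀ = algebraMap R (AdicCompletion I R) r₀ := by
        rw [AdicCompletion.algebraMap_apply]
        rfl
      rw [h1, algebraMap_smul]
  exact {}

end Groth.Agent.H9.FF
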