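import Mathlib

/-!
# Rees systems (formal functions project, algebra part 1)

A *Rees system* for an ideal `I` of a ring `A` abstracts the family `N n = H^q(X, I^n M)` with
* `w n : N n → W = H^q(X, M)` induced by the inclusions `I^n M ⊆ M`;
* transition maps `jj n k : N k → N n` (`n ≤ k`) induced by `I^k M ⊆ I^n M`;
* multiplications `μ n m b : N n → N (n + m)` for `b ∈ I^m`.

`Gen d` says that `⊕ N n` is generated over the Rees algebra by the levels `≤ d`, in the
elementary form `N (n+1) = I · N n` for `n ≥ d`.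

Main results (for `A` Noetherian):
* `range_w_succ` : the filtration `range (w n)` of `W` is `I`-stable;
* `gen_Q` : (Artin–Rees) the kernels `Q n = ker (w n)` are generated in the same way from some
  level on;
* `exists_jj_eq_zero` : the system `Q n` is uniformly Mittag-Leffler zero.
-/

set_option autoImplicit false
universe u

namespace Groth.Agent.H9.FF

theorem mul_mem_pow_succ {A : Type u} [CommRing A] {I : Ideal A} {m : ℕ} {b b' : A}
    (hb : b ∈ I ^ m) (hb' : b' ∈ I ^ 1) : b * b' ∈ I ^ (m + 1) := by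
  rw [pow_succ]
  exact Ideal.mul_mem_mul hb (by simpa using hb')

/-- A Rees system: the abstract structure carried by the groups `H^q(X, I^n M)`. -/
structure ReesSys (A : Type u) [CommRing A] (I : Ideal A) where
  /-- the levels (`H^q(X, I^n M)`) -/
  N : ℕ → Type u
  [acg : ∀ n, AddCommGroup (N n)]
  [mod : ∀ n, Module A (N n)]
  /-- the target (`H^q(X, M)`) -/
  W : Type u
  [acgW : AddCommGroup W]
  [modW : Module A W]
  /-- induced by `I^n M ⊆ M` -/
  w : ∀ n, N n →ₗ[A] W
  /-- induced by `I^k M ⊆ I^n M` -/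
  jj : ∀ n k, n ≤ k → N k →ₗ[A] N n
  /-- multiplication by `b ∈ I^m` -/
  μ : ∀ n m, ↥(I ^ m) →ₗ[A] N n →ₗ[A] N (n + m)
  jj_refl : ∀ n x, jj n n le_rfl x = x
  jj_trans : ∀ n m k (h : n ≤ m) (h' : m ≤ k) x, jj n m h (jj m k h' x) = jj n k (h.trans h') x
  w_jj : ∀ n k h x, w n (jj n k h x) = w k x
  w_μ : ∀ n m (b : ↥(I ^ m)) x, w (n + m) (μ n m b x) = (b : A) • w n x
  jj_μ_one : ∀ n (b : ↥(I ^ 1)) x, jj n (n + 1) (Nat.le_succ n) (μ n 1 b x) = (b : A) • x
  μ_μ : ∀ n m (b : ↥(I ^ m)) (b' : ↥(I ^ 1)) x,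
    μ (n + m) 1 b' (μ n m b x) = μ n (m + 1) ⟨(b : A) * b', mul_mem_pow_succ b.2 b'.2⟩ x
  μ_zero : ∀ n (b : ↥(I ^ 0)) x, μ n 0 b x = (b : A) • x
  kill : ∀ n (b : A), b ∈ I ^ n → ∀ y : N n, w n y = 0 → b • y = 0

attribute [instance] ReesSys.acg ReesSys.mod ReesSys.acgW ReesSys.modW

namespace ReesSys

variable {A : Type u} [CommRing A] {I : Ideal A} (R : ReesSys A I)

/-- the kernels `Q n = ker (w n)` -/
def Q (n : ℕ) : Submodule A (R.N n) := LinearMap.ker (R.w n)

theorem mem_Q {n : ℕ} {y : R.N n} : y ∈ R.Q n ↔ R.w n y = 0 := LinearMap.mem_ker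

/-- generation in degree one from level `d` on: `N (n+1) = I · N n` for `n ≥ d` -/
def Gen (d : ℕ) : Prop :=
  ∀ n, d ≤ n → ∀ y : R.N (n + 1),
    y ∈ Submodule.span A {z | ∃ (b : ↥(I ^ 1)) (x : R.N n), z = R.μ n 1 b x}

variable {R}

theorem gen_from {d : ℕ} (hd : R.Gen d) (m : ℕ) (y : R.N (d + m)) :
    y ∈ Submodule.span A {z | ∃ (b : ↥(I ^ m)) (x : R.N d), z = R.μ d m b x} := by
  induction m with
  | zero =>
    refine Submodule.subset_span ⟨⟨1, by simp⟩, y, ?_⟩
    rw [R.μ_zero]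
    exact (one_smul A y).symm
  | succ m ih =>
    have h1 := hd (d + m) (Nat.le_add_right d m) y
    refine Submodule.span_le.2 ?_ h1
    rintro z ⟨b', x', rfl⟩
    have h2 := ih x'
    refine Submodule.span_induction (p := fun x' _ => R.μ (d + m) 1 b' x' ∈
      Submodule.span A {z | ∃ (b : ↥(I ^ (m + 1))) (x : R.N d), z = R.μ d (m + 1) b x})
      ?_ ?_ ?_ ?_ h2
    · rintro _ ⟨b, x, rfl⟩
      exact Submodule.subset_span ⟨_, x, R.μ_μ d m b b' x⟩
    · rw [map_zero]; exact Submodule.zero_mem _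
    · intro x₁ x₂ _ _ h₁ h₂
      rw [map_add]; exact Submodule.add_mem _ h₁ h₂
    · intro c x₁ _ h₁
      rw [map_smul]; exact Submodule.smul_mem _ c h₁

/-- the filtration `range (w n)` of `W` is `I`-stable from level `d` on -/
theorem range_w_succ {d : ℕ} (hd : R.Gen d) (n : ℕ) (hn : d ≤ n) :
    LinearMap.range (R.w (n + 1)) = I • LinearMap.range (R.w n) := by
  apply le_antisymm
  · rintro _ ⟨y, rfl⟩
    have h1 := hd n hn y
    refine Submodule.span_induction (p := fun y _ => R.w (n + 1) y ∈ I • LinearMap.range (R.w n))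
      ?_ ?_ ?_ ?_ h1
    · rintro _ ⟨b, x, rfl⟩
      rw [R.w_μ]
      exact Submodule.smul_mem_smul (by simpa using b.2) ⟨x, rfl⟩
    · rw [map_zero]; exact Submodule.zero_mem _
    · intro x₁ x₂ _ _ h₁ h₂
      rw [map_add]; exact Submodule.add_mem _ h₁ h₂
    · intro c x₁ _ h₁
      rw [map_smul]; exact Submodule.smul_mem _ c h₁
  · rw [Submodule.smul_le]
    rintro b hb _ ⟨x, rfl⟩
    exact ⟨R.μ n 1 ⟨b, by simpa using hb⟩ x, R.w_μ n 1 _ x⟩

/-- the filtration `range (w n)` in terms of level `d` -/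
theorem range_w_add {d : ℕ} (hd : R.Gen d) (m : ℕ) :
    LinearMap.range (R.w (d + m)) = I ^ m • LinearMap.range (R.w d) := by
  induction m with
  | zero => simp
  | succ m ih =>
    change LinearMap.range (R.w (d + m + 1)) = _
    rw [range_w_succ hd (d + m) (Nat.le_add_right d m), ih, ← Submodule.mul_smul, pow_succ']

end ReesSys

end Groth.Agent.H9.FF
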