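import Mathlib
import Groth.Agent.H9.FF.Rees

/-!
# Rees systems: Artin–Rees for the kernels, and the uniform Mittag-Leffler property
-/

set_option autoImplicit false
universe u

namespace Groth.Agent.H9.FF

/-- membership in `J • ⊤` for functions on a finite type is coordinatewise -/
theorem mem_smul_top_pi_iff {A : Type u} [CommRing A] (J : Ideal A) {s : ℕ} (h : Fin s → A) :
    h ∈ J • (⊤ : Submodule A (Fin s → A)) ↔ ∀ l, h l ∈ J := by
  constructor
  · intro hh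
    refine Submodule.smul_induction_on hh ?_ ?_
    · intro r hr x _ l
      change r * x l ∈ J
      exact Ideal.mul_mem_right _ _ hr
    · intro x y hx hy l
      exact Ideal.add_mem _ (hx l) (hy l)
  · intro hh
    have e : h = ∑ l, h l • (Pi.single l (1 : A) : Fin s → A) := by
      ext i
      simp [Finset.sum_apply, Pi.single_apply]
    rw [e]
    exact Submodule.sum_mem _ (fun l _ => Submodule.smul_mem_smul (hh l) Submodule.mem_top)

namespace ReesSys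

variable {A : Type u} [CommRing A] {I : Ideal A} {R : ReesSys A I}

section AR

variable {d s : ℕ} (g : Fin s → R.N d)

/-- `Φ m f = Σ_l μ (f l) (g l)` -/
noncomputable def Φ (m : ℕ) : (Fin s → ↥(I ^ m)) →ₗ[A] R.N (d + m) :=
  ∑ l, ((R.μ d m).flip (g l)).comp (LinearMap.proj l)

theorem Φ_apply (m : ℕ) (f : Fin s → ↥(I ^ m)) : Φ g m f = ∑ l, R.μ d m (f l) (g l) := by
  simp [Φ, LinearMap.sum_apply]

/-- the linear form `f ↦ Σ_l f l • w (g l)` -/
noncomputable def ψ : (Fin s → A) →ₗ[A] R.W := Fintype.linearCombination A (fun l => R.w d (g l))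

theorem ψ_apply (f : Fin s → A) : ψ g f = ∑ l, f l • R.w d (g l) := by
  simp [ψ, Fintype.linearCombination_apply]

theorem w_Φ (m : ℕ) (f : Fin s → ↥(I ^ m)) :
    R.w (d + m) (Φ g m f) = ψ g (fun l => (f l : A)) := by
  rw [Φ_apply, ψ_apply, map_sum]
  exact Finset.sum_congr rfl (fun l _ => R.w_μ d m (f l) (g l))

theorem Φ_succ (m : ℕ) (f₀ : Fin s → ↥(I ^ m)) (b' : ↥(I ^ 1)) :
    Φ g (m + 1) (fun l => ⟨(f₀ l : A) * b', mul_mem_pow_succ (f₀ l).2 b'.2⟩) =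
      R.μ (d + m) 1 b' (Φ g m f₀) := by
  rw [Φ_apply, Φ_apply, map_sum]
  exact Finset.sum_congr rfl (fun l _ => (R.μ_μ d m (f₀ l) b' (g l)).symm)

variable (hg : Submodule.span A (Set.range g) = ⊤)
include hg

theorem exists_Φ_eq (hd : R.Gen d) (m : ℕ) (y : R.N (d + m)) :
    ∃ f : Fin s → ↥(I ^ m), Φ g m f = y := by
  have h1 := gen_from hd m y
  refine Submodule.span_induction (p := fun y _ => ∃ f : Fin s → ↥(I ^ m), Φ g m f = y)
    ?_ ?_ ?_ ?_ h1
  · rintro _ ⟨b, x, rfl⟩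
    have hx : x ∈ Submodule.span A (Set.range g) := by rw [hg]; trivial
    obtain ⟨c, rfl⟩ := (Submodule.mem_span_range_iff_exists_fun A).1 hx
    refine ⟨fun l => c l • b, ?_⟩
    rw [Φ_apply, map_sum]
    refine Finset.sum_congr rfl (fun l _ => ?_)
    rw [map_smul, map_smul, LinearMap.smul_apply]
  · exact ⟨0, map_zero _⟩
  · rintro _ _ _ _ ⟨f₁, rfl⟩ ⟨f₂, rfl⟩
    exact ⟨f₁ + f₂, map_add _ _ _⟩
  · rintro c _ _ ⟨f₁, rfl⟩
    exact ⟨c • f₁, map_smul _ _ _⟩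

/-- **Artin–Rees for the kernels**: from some level on, `Q (n+1) = I · Q n`. -/
theorem gen_Q_aux [IsNoetherianRing A] (hd : R.Gen d) :
    ∃ d', d ≤ d' ∧ ∀ n, d' ≤ n → ∀ y ∈ R.Q (n + 1),
      y ∈ Submodule.span A {z | ∃ (b : ↥(I ^ 1)) (x : R.N n), x ∈ R.Q n ∧ z = R.μ n 1 b x} := by
  obtain ⟨k, hk⟩ := Ideal.exists_pow_inf_eq_pow_smul I (LinearMap.ker (ψ g))
  refine ⟨d + k, Nat.le_add_right d k, ?_⟩
  intro n hn y hy
  obtain ⟨m, rfl⟩ : ∃ m, n = d + m := ⟨n - d, by omega⟩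
  have hm : k ≤ m := by omega
  -- the Artin–Rees equality at level `m + 1`
  have hAR : I ^ (m + 1) • (⊤ : Submodule A (Fin s → A)) ⊓ LinearMap.ker (ψ g) =
      I • (I ^ m • (⊤ : Submodule A (Fin s → A)) ⊓ LinearMap.ker (ψ g)) := by
    rw [hk (m + 1) (by omega), hk m hm, ← Submodule.mul_smul]
    congr 1
    rw [show m + 1 - k = (m - k) + 1 by omega, pow_succ']
  obtain ⟨f, rfl⟩ := exists_Φ_eq g hg hd (m + 1) y
  have hf : (fun l => (f l : A)) ∈ I • (I ^ m • (⊤ : Submodule A (Fin s → A)) ⊓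
      LinearMap.ker (ψ g)) := by
    rw [← hAR]
    refine ⟨(mem_smul_top_pi_iff _ _).2 (fun l => (f l).2), ?_⟩
    rw [SetLike.mem_coe, LinearMap.mem_ker, ← w_Φ]
    exact (R.mem_Q).1 hy
  -- induction over `I • (…)`
  have key : ∀ h ∈ I • (I ^ m • (⊤ : Submodule A (Fin s → A)) ⊓ LinearMap.ker (ψ g)),
      ∃ f' : Fin s → ↥(I ^ (m + 1)), (fun l => (f' l : A)) = h ∧ Φ g (m + 1) f' ∈
        Submodule.span A {z | ∃ (b : ↥(I ^ 1)) (x : R.N (d + m)), x ∈ R.Q (d + m) ∧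
          z = R.μ (d + m) 1 b x} := by
    intro h hh
    refine Submodule.smul_induction_on hh ?_ ?_
    · rintro b' hb' h₀ ⟨h₀I, h₀K⟩
      have hc := (mem_smul_top_pi_iff _ _).1 h₀I
      let f₀ : Fin s → ↥(I ^ m) := fun l => ⟨h₀ l, hc l⟩
      let bb : ↥(I ^ 1) := ⟨b', by simpa using hb'⟩
      refine ⟨fun l => ⟨(f₀ l : A) * bb, mul_mem_pow_succ (f₀ l).2 bb.2⟩, ?_, ?_⟩
      · funext l
        change h₀ l * b' = b' * h₀ l
        exact mul_comm _ _
      · rw [Φ_succ]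
        refine Submodule.subset_span ⟨bb, Φ g m f₀, ?_, rfl⟩
        rw [R.mem_Q, w_Φ]
        exact LinearMap.mem_ker.1 h₀K
    · rintro h₁ h₂ ⟨f₁, rfl, hf₁⟩ ⟨f₂, rfl, hf₂⟩
      refine ⟨f₁ + f₂, rfl, ?_⟩
      rw [map_add]
      exact Submodule.add_mem _ hf₁ hf₂
  obtain ⟨f', hf', hΦ⟩ := key _ hf
  have : f' = f := by
    funext l
    exact Subtype.ext (congrFun hf' l)
  rw [← this]
  exact hΦ

end AR

/-- **Artin–Rees for the kernels**: if `A` is Noetherian, `N d` is a finite `A`-module and `⊕ N n`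
is generated in degree one from level `d` on, then so is `⊕ Q n` from some level on. -/
theorem gen_Q [IsNoetherianRing A] {d : ℕ} (hd : R.Gen d) [Module.Finite A (R.N d)] :
    ∃ d', d ≤ d' ∧ ∀ n, d' ≤ n → ∀ y ∈ R.Q (n + 1),
      y ∈ Submodule.span A {z | ∃ (b : ↥(I ^ 1)) (x : R.N n), x ∈ R.Q n ∧ z = R.μ n 1 b x} := by
  obtain ⟨s, g, hg⟩ := Module.Finite.exists_fin (R := A) (M := R.N d)
  exact gen_Q_aux g hg hd

end ReesSys

end Groth.Agent.H9.FF
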