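import Mathlib
import Groth.Agent.H9.FF.ReesAR

/-!
# Rees systems: the kernels `Q n` form a uniformly Mittag-Leffler-zero system
-/

set_option autoImplicit false
universe u

namespace Groth.Agent.H9.FF

namespace ReesSys

variable {A : Type u} [CommRing A] {I : Ideal A} {R : ReesSys A I}

/-- the property established by `gen_Q`: from level `d'` on, `Q (n+1) = I · Q n` -/
def GenQ (R : ReesSys A I) (d' : ℕ) : Prop :=
  ∀ n, d' ≤ n → ∀ y ∈ R.Q (n + 1),
    y ∈ Submodule.span A {z | ∃ (b : ↥(I ^ 1)) (x : R.N n), x ∈ R.Q n ∧ z = R.μ n 1 b x}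

theorem w_jj_mem_Q {n k : ℕ} (h : n ≤ k) {y : R.N k} (hy : y ∈ R.Q k) : R.jj n k h y ∈ R.Q n := by
  rw [mem_Q] at hy ⊢
  rw [R.w_jj, hy]

theorem smul_eq_zero_of_mem_Q {d' : ℕ} (hQ : R.GenQ d') (a : A) (ha : a ∈ I ^ d') :
    ∀ n, d' ≤ n → ∀ y ∈ R.Q n, a • y = 0 := by
  intro n hn
  induction n, hn using Nat.le_induction with
  | base => exact fun y hy => R.kill d' a ha y (R.mem_Q.1 hy)
  | succ n hn ih =>
    intro y hy
    have h1 := hQ n hn y hy
    refine Submodule.span_induction (p := fun y _ => a • y = 0) ?_ ?_ ?_ ?_ h1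
    · rintro _ ⟨b, x, hx, rfl⟩
      rw [← map_smul, ih x hx, map_zero]
    · exact smul_zero a
    · intro x₁ x₂ _ _ h₁ h₂
      rw [smul_add, h₁, h₂, add_zero]
    · intro c x₁ _ h₁
      rw [smul_comm, h₁, smul_zero]

theorem jj_mem_pow_smul_Q {d' : ℕ} (hQ : R.GenQ d') (n : ℕ) (hn : d' ≤ n) :
    ∀ (m : ℕ) (y : R.N (n + m)), y ∈ R.Q (n + m) →
      R.jj n (n + m) (Nat.le_add_right n m) y ∈ I ^ m • R.Q n := by
  intro m
  induction m with
  | zero =>
    intro y hy
    have : R.jj n (n + 0) (Nat.le_add_right n 0) y = y := R.jj_refl n y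
    rw [this, pow_zero, Ideal.one_eq_top, Submodule.top_smul]
    exact hy
  | succ m ih =>
    intro y hy
    have h1 := hQ (n + m) (by omega) y hy
    refine Submodule.span_induction
      (p := fun y _ => R.jj n (n + (m + 1)) (Nat.le_add_right n (m + 1)) y ∈ I ^ (m + 1) • R.Q n)
      ?_ ?_ ?_ ?_ h1
    · rintro _ ⟨b, x, hx, rfl⟩
      have e : R.jj n (n + (m + 1)) (Nat.le_add_right n (m + 1)) (R.μ (n + m) 1 b x) =
          R.jj n (n + m) (Nat.le_add_right n m)
            (R.jj (n + m) (n + m + 1) (Nat.le_succ (n + m)) (R.μ (n + m) 1 b x)) :=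
        (R.jj_trans n (n + m) (n + m + 1) _ _ _).symm
      rw [e, R.jj_μ_one, map_smul, pow_succ', Submodule.mul_smul]
      exact Submodule.smul_mem_smul (by simpa using b.2) (ih x hx)
    · rw [map_zero]; exact Submodule.zero_mem _
    · intro x₁ x₂ _ _ h₁ h₂
      rw [map_add]; exact Submodule.add_mem _ h₁ h₂
    · intro c x₁ _ h₁
      rw [map_smul]; exact Submodule.smul_mem _ c h₁

/-- **Uniform Mittag-Leffler-zero property of the kernels.** -/
theorem exists_jj_eq_zero_of_genQ {d' : ℕ} (hQ : R.GenQ d') :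
    ∃ c : ℕ, ∀ (n k : ℕ) (h : n ≤ k), n + c ≤ k → ∀ y ∈ R.Q k, R.jj n k h y = 0 := by
  refine ⟨2 * d', ?_⟩
  intro n k h hk y hy
  obtain ⟨m, rfl⟩ : ∃ m, k = (n + d') + m := ⟨k - (n + d'), by omega⟩
  have hm : d' ≤ m := by omega
  have h1 := jj_mem_pow_smul_Q hQ (n + d') (Nat.le_add_left d' n) m y hy
  have h2 : I ^ m • R.Q (n + d') ≤ ⊥ := by
    rw [Submodule.smul_le]
    intro a ha x hx
    rw [Submodule.mem_bot]
    exact smul_eq_zero_of_mem_Q hQ a (Ideal.pow_le_pow_right hm ha) (n + d')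
      (Nat.le_add_left d' n) x hx
  have h3 : R.jj (n + d') (n + d' + m) (Nat.le_add_right _ m) y = 0 :=
    (Submodule.mem_bot A).1 (h2 h1)
  rw [← R.jj_trans n (n + d') (n + d' + m) (Nat.le_add_right n d') (Nat.le_add_right _ m), h3,
    map_zero]

/-- **Uniform Mittag-Leffler-zero property of the kernels**, from finite generation. -/
theorem exists_jj_eq_zero [IsNoetherianRing A] {d : ℕ} (hd : R.Gen d) [Module.Finite A (R.N d)] :
    ∃ c : ℕ, ∀ (n k : ℕ) (h : n ≤ k), n + c ≤ k → ∀ y ∈ R.Q k, R.jj n k h y = 0 := by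
  obtain ⟨d', -, hQ⟩ := gen_Q hd
  exact exists_jj_eq_zero_of_genQ hQ

end ReesSys

end Groth.Agent.H9.FF
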