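import Mathlib
import Groth.Agent.H9.FF.ReesML

/-!
# The algebra of the theorem on formal functions (formal functions project, algebra part 2)

`FFData A I` abstracts, for fixed `p`, the long exact sequences
`H^p(I^n M) → H^p(M) → H^p(M/I^n M) → H^{p+1}(I^n M) → H^{p+1}(M)`:
two Rees systems `R` (degree `p`) and `R'` (degree `p+1`), the groups `E n = H^p(M / I^n M)`
with transition maps `t`, projections `π n : H^p(M) → E n` and connecting maps `δ n`.

Results: stability of the filtration `ker (π n)` (`ker_π_succ`, `ker_π_add_le`), the uniform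
Mittag-Leffler property (`range_t`), the comparison `AdicCompletion I W ≃+ lim E` (`adicEquiv`) and
bijectivity of `W → lim E` for `W` complete (`toLim_bijective`).
-/

set_option autoImplicit false
universe u

namespace Groth.Agent.H9.FF

/-- the abstract data of the theorem on formal functions in a fixed degree -/
structure FFData (A : Type u) [CommRing A] (I : Ideal A) where
  /-- degree `p`: `N n = H^p(I^n M)`, `W = H^p(M)` -/
  R : ReesSys A I
  /-- degree `p + 1` -/
  R' : ReesSys A I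
  /-- `E n = H^p(M / I^n M)` -/
  E : ℕ → Type u
  [acgE : ∀ n, AddCommGroup (E n)]
  [modE : ∀ n, Module A (E n)]
  π : ∀ n, R.W →ₗ[A] E n
  δ : ∀ n, E n →ₗ[A] R'.N n
  t : ∀ n k, n ≤ k → E k →ₗ[A] E n
  t_refl : ∀ n e, t n n le_rfl e = e
  t_trans : ∀ n m k (h : n ≤ m) (h' : m ≤ k) e, t n m h (t m k h' e) = t n k (h.trans h') e
  exact_W : ∀ n, LinearMap.ker (π n) = LinearMap.range (R.w n)
  exact_E : ∀ n, LinearMap.ker (δ n) = LinearMap.range (π n)
  exact_N' : ∀ n, LinearMap.ker (R'.w n) = LinearMap.range (δ n)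
  t_π : ∀ n k h x, t n k h (π k x) = π n x
  δ_t : ∀ n k h e, δ n (t n k h e) = R'.jj n k h (δ k e)
  kill_E : ∀ n (b : A), b ∈ I ^ n → ∀ e : E n, b • e = 0

attribute [instance] FFData.acgE FFData.modE

namespace FFData

variable {A : Type u} [CommRing A] {I : Ideal A} (D : FFData A I)

/-- the uniform Mittag-Leffler-zero property of the kernels in degree `p + 1` -/
def ML (c : ℕ) : Prop :=
  ∀ (n k : ℕ) (h : n ≤ k), n + c ≤ k → ∀ y ∈ D.R'.Q k, D.R'.jj n k h y = 0

theorem exists_ML [IsNoetherianRing A] {d' : ℕ} (hd' : D.R'.Gen d') [Module.Finite A (D.R'.N d')] :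
    ∃ c, D.ML c :=
  ReesSys.exists_jj_eq_zero hd'

/-- stability of the filtration `ker (π n)` -/
theorem ker_π_succ {d : ℕ} (hd : D.R.Gen d) (n : ℕ) (hn : d ≤ n) :
    LinearMap.ker (D.π (n + 1)) = I • LinearMap.ker (D.π n) := by
  rw [D.exact_W, D.exact_W, ReesSys.range_w_succ hd n hn]

theorem ker_π_add_le {d : ℕ} (hd : D.R.Gen d) (m : ℕ) :
    LinearMap.ker (D.π (d + m)) ≤ I ^ m • ⊤ := by
  rw [D.exact_W, ReesSys.range_w_add hd m]
  exact Submodule.smul_mono le_rfl le_top

theorem pow_smul_top_le_ker_π (n : ℕ) : I ^ n • (⊤ : Submodule A D.R.W) ≤ LinearMap.ker (D.π n) := by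
  rw [Submodule.smul_le]
  intro b hb x _
  rw [LinearMap.mem_ker, map_smul]
  exact D.kill_E n b hb _

theorem ker_π_anti {n k : ℕ} (h : n ≤ k) : LinearMap.ker (D.π k) ≤ LinearMap.ker (D.π n) := by
  intro x hx
  rw [LinearMap.mem_ker] at hx ⊢
  rw [← D.t_π n k h, hx, map_zero]

/-- the uniform Mittag-Leffler property: the image of `E k → E n` is the image of `W → E n` for
`k ≥ n + c` -/
theorem range_t {c : ℕ} (hc : D.ML c) (n k : ℕ) (h : n ≤ k) (hk : n + c ≤ k) :
    LinearMap.range (D.t n k h) = LinearMap.range (D.π n) := by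
  apply le_antisymm
  · rintro _ ⟨e, rfl⟩
    rw [← D.exact_E, LinearMap.mem_ker, D.δ_t]
    refine hc n k h hk _ ?_
    change D.δ k e ∈ LinearMap.ker (D.R'.w k)
    rw [D.exact_N']
    exact ⟨e, rfl⟩
  · rintro _ ⟨x, rfl⟩
    exact ⟨D.π k x, D.t_π n k h x⟩

/-- the inverse limit `lim_n E (n + 1)` -/
def limE : AddSubgroup (∀ n, D.E (n + 1)) where
  carrier := {y | ∀ n, D.t (n + 1) (n + 1 + 1) (Nat.le_succ _) (y (n + 1)) = y n}
  zero_mem' := by intro n; simp
  add_mem' := by intro x y hx hy n; simp [hx n, hy n]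
  neg_mem' := by intro x hx n; simp [hx n]

theorem limE_compat (y : D.limE) (n m : ℕ) :
    D.t (n + 1) (n + m + 1) (by omega) (y.1 (n + m)) = y.1 n := by
  induction m with
  | zero => exact D.t_refl _ _
  | succ m ih =>
    rw [← ih, ← y.2 (n + m)]
    exact (D.t_trans (n + 1) (n + m + 1) (n + m + 1 + 1) (by omega) (Nat.le_succ _) _).symm

/-- the canonical map `W → lim E` -/
def toLim : D.R.W →+ D.limE where
  toFun x := ⟨fun n => D.π (n + 1) x, fun n => D.t_π _ _ _ x⟩
  map_zero' := by ext n; simp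
  map_add' := by intro x y; ext n; simp

/-- `π n` on the quotient `W / I^n W` -/
def πbar (n : ℕ) : (D.R.W ⧸ (I ^ n • ⊤ : Submodule A D.R.W)) →ₗ[A] D.E n :=
  Submodule.liftQ _ (D.π n) (D.pow_smul_top_le_ker_π n)

@[simp] theorem πbar_mk (n : ℕ) (x : D.R.W) :
    D.πbar n (Submodule.Quotient.mk x) = D.π n x := rfl

/-- the comparison map from the adic completion of `W` to `lim E` -/
def Θ : AdicCompletion I D.R.W →+ D.limE where
  toFun f := ⟨fun n => D.πbar (n + 1) (f.val (n + 1)), fun n => by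
    obtain ⟨x, hx⟩ := Submodule.Quotient.mk_surjective _ (f.val (n + 1 + 1))
    have h1 : f.val (n + 1) = Submodule.Quotient.mk x := by
      rw [← f.property (Nat.le_succ (n + 1)), ← hx]
      rfl
    change D.t (n + 1) (n + 1 + 1) _ (D.πbar (n + 1 + 1) (f.val (n + 1 + 1))) =
      D.πbar (n + 1) (f.val (n + 1))
    rw [h1, ← hx, πbar_mk, πbar_mk, D.t_π]⟩
  map_zero' := by
    ext n
    change D.πbar (n + 1) ((0 : AdicCompletion I D.R.W).val (n + 1)) = 0
    rw [AdicCompletion.val_zero_apply, map_zero]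
  map_add' := by
    intro f g
    ext n
    change D.πbar (n + 1) ((f + g).val (n + 1)) =
      D.πbar (n + 1) (f.val (n + 1)) + D.πbar (n + 1) (g.val (n + 1))
    rw [AdicCompletion.val_add_apply, map_add]

theorem Θ_apply (f : AdicCompletion I D.R.W) (n : ℕ) :
    (D.Θ f).1 n = D.πbar (n + 1) (f.val (n + 1)) := rfl

theorem Θ_of (x : D.R.W) : D.Θ (AdicCompletion.of I D.R.W x) = D.toLim x := by
  ext n
  rfl

theorem Θ_injective {d : ℕ} (hd : D.R.Gen d) : Function.Injective D.Θ := by
  rw [injective_iff_map_eq_zero]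
  intro f hf
  apply AdicCompletion.ext
  intro n
  rw [AdicCompletion.val_zero_apply]
  obtain ⟨x, hx⟩ := Submodule.Quotient.mk_surjective _ (f.val (d + n + 1))
  have h1 : D.π (d + (n + 1)) x = 0 := by
    have h2 : (D.Θ f).1 (d + n) = 0 := by rw [hf]; rfl
    rw [Θ_apply, ← hx, πbar_mk] at h2
    exact h2
  have h3 : x ∈ I ^ n • (⊤ : Submodule A D.R.W) :=
    Submodule.smul_mono_left (Ideal.pow_le_pow_right (Nat.le_succ n))
      (D.ker_π_add_le hd (n + 1) (LinearMap.mem_ker.2 h1))
  have h4 : f.val n = Submodule.Quotient.mk x := by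
    rw [← f.property (show n ≤ d + n + 1 by omega), ← hx]
    rfl
  rw [h4]
  exact (Submodule.Quotient.mk_eq_zero _).2 h3

theorem Θ_surjective {d c : ℕ} (hd : D.R.Gen d) (hc : D.ML c) : Function.Surjective D.Θ := by
  intro y
  -- every component comes from `W`
  have h1 : ∀ n, ∃ x : D.R.W, D.π (n + 1) x = y.1 n := by
    intro n
    have h2 : y.1 n ∈ LinearMap.range (D.t (n + 1) (n + c + 1) (by omega)) :=
      ⟨y.1 (n + c), D.limE_compat y n c⟩
    rw [D.range_t hc (n + 1) (n + c + 1) (by omega) (by omega)] at h2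
    exact h2
  choose x hx using h1
  have h3 : ∀ n, x (n + 1) - x n ∈ LinearMap.ker (D.π (n + 1)) := by
    intro n
    rw [LinearMap.mem_ker, map_sub, hx n, ← D.t_π (n + 1) (n + 1 + 1) (Nat.le_succ _), hx (n + 1),
      y.2 n, sub_self]
  have h4 : ∀ n k, n ≤ k → x k - x n ∈ LinearMap.ker (D.π (n + 1)) := by
    intro n k hnk
    induction k, hnk using Nat.le_induction with
    | base => rw [sub_self]; exact Submodule.zero_mem _
    | succ k hnk ih =>
      have : x (k + 1) - x n = (x (k + 1) - x k) + (x k - x n) := by abel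
      rw [this]
      exact Submodule.add_mem _ (D.ker_π_anti (by omega) (h3 k)) ih
  let z : AdicCompletion.AdicCauchySequence I D.R.W := AdicCompletion.AdicCauchySequence.mk I D.R.W (fun m => x (d + m)) (by
    intro m
    rw [SModEq.comm, SModEq.sub_mem] -- x (d + (m+1)) - x (d + m) ∈ I^m • ⊤
    have h5 : x (d + m + 1) - x (d + m) ∈ LinearMap.ker (D.π (d + (m + 1))) := h3 (d + m)
    exact Submodule.smul_mono_left (Ideal.pow_le_pow_right (Nat.le_succ m))
      (D.ker_π_add_le hd (m + 1) h5))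
  refine ⟨AdicCompletion.mk I D.R.W z, ?_⟩
  ext n
  rw [Θ_apply]
  change D.π (n + 1) (x (d + (n + 1))) = y.1 n
  rw [← hx n, ← sub_eq_zero, ← map_sub]
  exact LinearMap.mem_ker.1 (h4 n (d + (n + 1)) (by omega))

/-- **The theorem on formal functions, abstract form**: the adic completion of `W = H^p(M)` is
the inverse limit of the `E n = H^p(M / I^n M)`. -/
noncomputable def adicEquiv {d c : ℕ} (hd : D.R.Gen d) (hc : D.ML c) :
    AdicCompletion I D.R.W ≃+ D.limE :=
  AddEquiv.ofBijective D.Θ ⟨D.Θ_injective hd, D.Θ_surjective hd hc⟩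

/-- if `W` is `I`-adically complete, `W → lim E` is bijective -/
theorem toLim_bijective {d c : ℕ} (hd : D.R.Gen d) (hc : D.ML c) [IsAdicComplete I D.R.W] :
    Function.Bijective D.toLim := by
  have h1 : (D.toLim : D.R.W → D.limE) = D.Θ ∘ AdicCompletion.of I D.R.W := by
    funext x
    exact (D.Θ_of x).symm
  rw [h1]
  exact Function.Bijective.comp ⟨D.Θ_injective hd, D.Θ_surjective hd hc⟩
    (AdicCompletion.of_bijective I D.R.W)

end FFData

end Groth.Agent.H9.FF
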