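import Mathlib
import Groth.Prelude.Def_Formal
import Groth.Agent.Lead.Coh.FiniteLES

/-!
# Naturality of the long exact cohomology sequence (formal functions project)

Complements to `Groth.Agent.Lead.FiniteLES`: additivity of `HHmap`, the action of
`Formal.smulMod` on cohomology, and naturality of the connecting map `HHδ` with respect to
morphisms of short exact sequences.
-/

set_option autoImplicit false
universe u
open CategoryTheory CategoryTheory.Limits AlgebraicGeometry Opposite TopologicalSpace Abelian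

namespace Groth.Agent.H9.FF

open Groth.Agent.Lead.FiniteLES

variable {X : Scheme.{u}}

theorem HHmap_add {M N : X.Modules} (φ ψ : M ⟶ N) (n : ℕ) :
    HHmap (φ + ψ) n = HHmap φ n + HHmap ψ n := by
  ext x
  have h : (SheafOfModules.toSheaf X.ringCatSheaf).map (φ + ψ) =
      (SheafOfModules.toSheaf X.ringCatSheaf).map φ +
        (SheafOfModules.toSheaf X.ringCatSheaf).map ψ := Functor.map_add _
  exact (congrArg (fun f => Sheaf.H.map f n x) h).trans (Sheaf.H.map_add_apply _ _ x)

theorem HHmap_smulModΓ (M : X.Modules) (r : Coh.Γtop X) (n : ℕ) (x : Coh.HH X M n) :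
    HHmap (Formal.smulModΓ M r) n x = r • x := rfl

theorem HHmap_smulMod {A : Type u} [CommRing A] [X.Over (Spec (CommRingCat.of A))]
    (M : X.Modules) (a : A) (n : ℕ) (x : Coh.HH X M n) :
    HHmap (Formal.smulMod A M a) n x = a • x := rfl

/-- naturality of the connecting map -/
theorem HHδ_naturality {E E' : ShortComplex X.Modules} (hE : E.ShortExact) (hE' : E'.ShortExact)
    (φ : E ⟶ E') (n : ℕ) (x : Coh.HH X E.X₃ n) :
    HHδ E' hE' n (HHmap φ.τ₃ n x) = HHmap φ.τ₁ (n + 1) (HHδ E hE n x) := by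
  have hS := Groth.Agent.H49.SectionsExact.shortExact_toSheaf E hE
  have hS' := Groth.Agent.H49.SectionsExact.shortExact_toSheaf E' hE'
  have h2 := ShortComplex.ShortExact.extClass_naturality hS hS'
    ((Groth.Agent.H49.SectionsExact.T X).mapShortComplex.map φ)
  let x₃ : Ext ((constantSheaf (Opens.grothendieckTopology X) AddCommGrpCat.{u}).obj
    (AddCommGrpCat.of (ULift ℤ))) (Coh.toAb E.X₃) n := x
  have h2' : (Ext.mk₀ ((Groth.Agent.H49.SectionsExact.T X).map φ.τ₃)).comp hS'.extClass
        (zero_add 1) =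
      hS.extClass.comp (Ext.mk₀ ((Groth.Agent.H49.SectionsExact.T X).map φ.τ₁)) (add_zero 1) :=
    h2.symm
  have h3 : (x₃.comp (Ext.mk₀ ((Groth.Agent.H49.SectionsExact.T X).map φ.τ₃))
        (add_zero n)).comp hS'.extClass (rfl : n + 1 = n + 1) =
      x₃.comp ((Ext.mk₀ ((Groth.Agent.H49.SectionsExact.T X).map φ.τ₃)).comp hS'.extClass
        (zero_add 1)) (rfl : n + 1 = n + 1) :=
    Ext.comp_assoc x₃ (Ext.mk₀ ((Groth.Agent.H49.SectionsExact.T X).map φ.τ₃)) hS'.extClass
      (add_zero n) (zero_add 1) (by omega)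
  have h4 : x₃.comp (hS.extClass.comp
        (Ext.mk₀ ((Groth.Agent.H49.SectionsExact.T X).map φ.τ₁)) (add_zero 1))
        (rfl : n + 1 = n + 1) =
      (x₃.comp hS.extClass (rfl : n + 1 = n + 1)).comp
        (Ext.mk₀ ((Groth.Agent.H49.SectionsExact.T X).map φ.τ₁)) (add_zero (n + 1)) :=
    (Ext.comp_assoc x₃ hS.extClass (Ext.mk₀ ((Groth.Agent.H49.SectionsExact.T X).map φ.τ₁)) rfl
      (add_zero 1) (by omega)).symm
  exact h3.trans ((congrArg (fun z => x₃.comp z (rfl : n + 1 = n + 1)) h2').trans h4)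

end Groth.Agent.H9.FF
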