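import Mathlib
import Groth.Prelude.Def_Formal
import Groth.Agent.H44.SmulModQuot

/-!
# The submodules `I^n M` of an `O_X`-module over `Spec A` (formal functions project)

For `X` over `Spec A`, `I` an ideal of `A` and `M : X.Modules`:
* `IM I n M` : the submodule `I^n M`, i.e. the kernel of `Formal.modPowπ I n M : M ⟶ M / I^n M`
  (equivalently the image of `Formal.smulFamily (I^n) M`), with inclusion `IMι`;
* `ses I n M` : the short exact sequence `0 → I^n M → M → M / I^n M → 0`;
* `mulIM I n m M b hb : IM I n M ⟶ IM I (n + m) M` : multiplication by `b ∈ I^m`;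
* `inclIM I n M : IM I (n + 1) M ⟶ IM I n M` : the inclusion `I^(n+1) M ⊆ I^n M`;
* `liftIM I n M b hb : M ⟶ IM I n M` : multiplication by `b ∈ I^n`, as a map into `I^n M`.
-/

set_option autoImplicit false
universe u
open CategoryTheory CategoryTheory.Limits AlgebraicGeometry Opposite TopologicalSpace

namespace Groth.Agent.H9.FF

open Groth.Agent.H44

variable {A : Type u} [CommRing A] {X : Scheme.{u}} [X.Over (Spec (CommRingCat.of A))]

theorem smulModΓ_add (M : X.Modules) (r s : Coh.Γtop X) :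
    Formal.smulModΓ M (r + s) = Formal.smulModΓ M r + Formal.smulModΓ M s := by
  ext U m
  change resΓ X U (r + s) • m = resΓ X U r • m + resΓ X U s • m
  rw [← add_smul]
  congr 1
  exact map_add (Coh.resTop X (op U)) r s

theorem smulModΓ_zero (M : X.Modules) : Formal.smulModΓ M 0 = 0 := by
  ext U m
  change resΓ X U 0 • m = 0
  have : resΓ X U 0 = 0 := map_zero (Coh.resTop X (op U))
  rw [this, zero_smul]

variable (A) in
theorem smulMod_add (M : X.Modules) (a b : A) :
    Formal.smulMod A M (a + b) = Formal.smulMod A M a + Formal.smulMod A M b := by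
  unfold Formal.smulMod
  rw [map_add, smulModΓ_add]

variable (A) in
theorem smulMod_zero (M : X.Modules) : Formal.smulMod A M 0 = 0 := by
  unfold Formal.smulMod
  rw [map_zero, smulModΓ_zero]

variable (I : Ideal A) (n m : ℕ) (M : X.Modules)

/-- the submodule `I^n M` of `M`: the kernel of `M ⟶ M / I^n M` -/
noncomputable def IM : X.Modules := kernel (Formal.modPowπ I n M)

/-- the inclusion `I^n M ⟶ M` -/
noncomputable def IMι : IM I n M ⟶ M := kernel.ι (Formal.modPowπ I n M)

instance : Mono (IMι I n M) :=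
  inferInstanceAs (Mono (kernel.ι (Formal.modPowπ I n M)))

@[reassoc]
theorem IMι_π : IMι I n M ≫ Formal.modPowπ I n M = 0 := kernel.condition _

/-- the canonical epimorphism `∐_{a ∈ I^n} M ⟶ I^n M` -/
noncomputable def toIM : (∐ fun _ : ↥(I ^ n) => M) ⟶ IM I n M :=
  Abelian.factorThruImage (Formal.smulFamily (I ^ n) M)

instance : Epi (toIM I n M) :=
  inferInstanceAs (Epi (Abelian.factorThruImage (Formal.smulFamily (I ^ n) M)))

@[reassoc]
theorem toIM_ι : toIM I n M ≫ IMι I n M = Formal.smulFamily (I ^ n) M :=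
  Abelian.image.fac (Formal.smulFamily (I ^ n) M)

/-- the short complex `I^n M ⟶ M ⟶ M / I^n M` -/
noncomputable def ses : ShortComplex X.Modules :=
  ShortComplex.mk (IMι I n M) (Formal.modPowπ I n M) (IMι_π I n M)

theorem ses_shortExact : (ses I n M).ShortExact where
  exact := ShortComplex.exact_of_f_is_kernel _ (kernelIsKernel (Formal.modPowπ I n M))
  mono_f := inferInstanceAs (Mono (IMι I n M))
  epi_g := inferInstanceAs (Epi (Formal.modPowπ I n M))

variable {I n m M}

theorem ι_smulFamily (J : Ideal A) (a : J) :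
    Sigma.ι (fun _ : J => M) a ≫ Formal.smulFamily J M = Formal.smulMod A M (a : A) := by
  simp [Formal.smulFamily]

/-- `b • (I^n M) ⊆ I^(n+m) M` for `b ∈ I^m` -/
theorem IMι_smulMod_π (b : A) (hb : b ∈ I ^ m) :
    (IMι I n M ≫ Formal.smulMod A M b) ≫ Formal.modPowπ I (n + m) M = 0 := by
  rw [← cancel_epi (toIM I n M), comp_zero, ← Category.assoc, ← Category.assoc, toIM_ι]
  apply Sigma.hom_ext
  intro a
  rw [comp_zero, ← Category.assoc, ← Category.assoc, ι_smulFamily, ← smulMod_mul]
  exact smulMod_comp_modPowπ_of_mem I (n + m) M _ (by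
    rw [pow_add]; exact Ideal.mul_mem_mul a.2 hb)

variable (I n m M) in
/-- multiplication by `b ∈ I^m`, as a morphism `I^n M ⟶ I^(n+m) M` -/
noncomputable def mulIM (b : A) (hb : b ∈ I ^ m) : IM I n M ⟶ IM I (n + m) M :=
  kernel.lift _ (IMι I n M ≫ Formal.smulMod A M b) (IMι_smulMod_π b hb)

@[reassoc]
theorem mulIM_ι (b : A) (hb : b ∈ I ^ m) :
    mulIM I n m M b hb ≫ IMι I (n + m) M = IMι I n M ≫ Formal.smulMod A M b :=
  kernel.lift_ι _ _ _

theorem IMι_succ_π : IMι I (n + 1) M ≫ Formal.modPowπ I n M = 0 := by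
  rw [← Formal.modPowπ_trans I n M, ← Category.assoc, IMι_π, zero_comp]

variable (I n M) in
/-- the inclusion `I^(n+1) M ⟶ I^n M` -/
noncomputable def inclIM : IM I (n + 1) M ⟶ IM I n M :=
  kernel.lift _ (IMι I (n + 1) M) IMι_succ_π

@[reassoc]
theorem inclIM_ι : inclIM I n M ≫ IMι I n M = IMι I (n + 1) M := kernel.lift_ι _ _ _

variable (I n M) in
/-- multiplication by `b ∈ I^n`, as a morphism `M ⟶ I^n M` -/
noncomputable def liftIM (b : A) (hb : b ∈ I ^ n) : M ⟶ IM I n M :=
  kernel.lift _ (Formal.smulMod A M b) (smulMod_comp_modPowπ_of_mem I n M b hb)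

@[reassoc]
theorem liftIM_ι (b : A) (hb : b ∈ I ^ n) :
    liftIM I n M b hb ≫ IMι I n M = Formal.smulMod A M b := kernel.lift_ι _ _ _

/-- multiplication by `b ∈ I^n` on `I^n M` factors through `M` -/
theorem IMι_liftIM (b : A) (hb : b ∈ I ^ n) :
    IMι I n M ≫ liftIM I n M b hb = Formal.smulMod A (IM I n M) b := by
  rw [← cancel_mono (IMι I n M), Category.assoc, liftIM_ι, smulMod_naturality]

theorem mulIM_add (b b' : A) (hb : b ∈ I ^ m) (hb' : b' ∈ I ^ m) :
    mulIM I n m M (b + b') (Ideal.add_mem _ hb hb') = mulIM I n m M b hb + mulIM I n m M b' hb' := by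
  rw [← cancel_mono (IMι I (n + m) M), Preadditive.add_comp, mulIM_ι, mulIM_ι, mulIM_ι,
    smulMod_add, Preadditive.comp_add]

theorem mulIM_smul (c b : A) (hb : b ∈ I ^ m) :
    mulIM I n m M (c * b) (Ideal.mul_mem_left _ c hb) =
      mulIM I n m M b hb ≫ Formal.smulMod A (IM I (n + m) M) c := by
  rw [← cancel_mono (IMι I (n + m) M), Category.assoc, mulIM_ι, smulMod_naturality,
    mulIM_ι_assoc, mul_comm, smulMod_mul]

theorem mulIM_zero_eq (b : A) (hb : b ∈ I ^ 0) :
    mulIM I n 0 M b hb = Formal.smulMod A (IM I n M) b := by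
  rw [← cancel_mono (IMι I (n + 0) M), mulIM_ι]
  exact (smulMod_naturality A (IMι I n M) b).symm

theorem mulIM_mulIM (b b' : A) (hb : b ∈ I ^ m) (hb' : b' ∈ I ^ 1) :
    mulIM I n m M b hb ≫ mulIM I (n + m) 1 M b' hb' =
      mulIM I n (m + 1) M (b * b') (by rw [pow_succ]; exact Ideal.mul_mem_mul hb (by simpa using hb')) := by
  rw [← cancel_mono (IMι I (n + (m + 1)) M), mulIM_ι]
  change (mulIM I n m M b hb ≫ mulIM I (n + m) 1 M b' hb') ≫ IMι I (n + m + 1) M = _
  rw [Category.assoc, mulIM_ι, mulIM_ι_assoc, smulMod_mul]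

theorem mulIM_inclIM (b : A) (hb : b ∈ I ^ (m + 1)) :
    mulIM I n (m + 1) M b hb ≫ inclIM I (n + m) M =
      mulIM I n m M b (Ideal.pow_le_pow_right (Nat.le_succ m) hb) := by
  rw [← cancel_mono (IMι I (n + m) M), Category.assoc, inclIM_ι, mulIM_ι]
  exact mulIM_ι b hb

/-- the transition morphism of short exact sequences `(I^(n+1)M → M → M/I^(n+1)M) ⟶ (I^nM → M → M/I^nM)` -/
noncomputable def sesTrans (I : Ideal A) (n : ℕ) (M : X.Modules) : ses I (n + 1) M ⟶ ses I n M where
  τ₁ := inclIM I n M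
  τ₂ := 𝟙 M
  τ₃ := Formal.modPowTrans I n M
  comm₁₂ := by
    change inclIM I n M ≫ IMι I n M = IMι I (n + 1) M ≫ 𝟙 M
    rw [inclIM_ι, Category.comp_id]
  comm₂₃ := by
    change 𝟙 M ≫ Formal.modPowπ I n M = Formal.modPowπ I (n + 1) M ≫ Formal.modPowTrans I n M
    rw [Category.id_comp, Formal.modPowπ_trans]

/-- `M / I^n M` is killed by `I^n` -/
theorem smulMod_modPow_eq_zero (b : A) (hb : b ∈ I ^ n) :
    Formal.smulMod A (Formal.modPow I n M) b = 0 := by
  rw [← cancel_epi (Formal.modPowπ I n M), comp_zero, ← smulMod_naturality,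
    smulMod_comp_modPowπ_of_mem I n M b hb]

end Groth.Agent.H9.FF
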