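import Mathlib
import Groth.Agent.H9.FF.IM

/-!
# General transition maps between the `I^n M` and the `M / I^n M` (formal functions project)

* `modPowLE I M h : M / I^k M ⟶ M / I^n M` and `inclLE I M h : I^k M ⟶ I^n M` for `n ≤ k`;
* `sesLE I M h : ses I k M ⟶ ses I n M`;
* the transition maps of `Formal.completion I M` are the `modPowLE`.
-/

set_option autoImplicit false
universe u
open CategoryTheory CategoryTheory.Limits AlgebraicGeometry Opposite TopologicalSpace

namespace Groth.Agent.H9.FF

variable {A : Type u} [CommRing A] {X : Scheme.{u}} [X.Over (Spec (CommRingCat.of A))]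
variable (I : Ideal A) (M : X.Modules)

/-- the projection `M / I^k M ⟶ M / I^n M` for `n ≤ k` -/
noncomputable def modPowLE {n k : ℕ} (h : n ≤ k) : Formal.modPow I k M ⟶ Formal.modPow I n M :=
  cokernel.desc _ (Formal.modPowπ I n M) (Formal.smulFamily_π_of_le (Ideal.pow_le_pow_right h) M)

@[reassoc (attr := simp)]
theorem π_modPowLE {n k : ℕ} (h : n ≤ k) :
    Formal.modPowπ I k M ≫ modPowLE I M h = Formal.modPowπ I n M :=
  cokernel.π_desc _ _ _

instance (n : ℕ) : Epi (Formal.modPowπ I n M) :=
  inferInstanceAs (Epi (cokernel.π (Formal.smulFamily (I ^ n) M)))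

theorem modPowLE_refl (n : ℕ) : modPowLE I M (le_refl n) = 𝟙 _ := by
  rw [← cancel_epi (Formal.modPowπ I n M), π_modPowLE, Category.comp_id]

theorem modPowLE_trans {n m k : ℕ} (h : n ≤ m) (h' : m ≤ k) :
    modPowLE I M h' ≫ modPowLE I M h = modPowLE I M (h.trans h') := by
  rw [← cancel_epi (Formal.modPowπ I k M), π_modPowLE_assoc, π_modPowLE, π_modPowLE]

theorem modPowLE_succ (n : ℕ) : modPowLE I M (Nat.le_succ n) = Formal.modPowTrans I n M := by
  rw [← cancel_epi (Formal.modPowπ I (n + 1) M), π_modPowLE, Formal.modPowπ_trans]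

theorem π_completion_map {n k : ℕ} (h : n ≤ k) :
    (show M ⟶ (Formal.completion I M).obj (op k) from Formal.modPowπ I (k + 1) M) ≫
      (Formal.completion I M).map (homOfLE h).op =
    (show M ⟶ (Formal.completion I M).obj (op n) from Formal.modPowπ I (n + 1) M) := by
  induction k, h using Nat.le_induction with
  | base =>
    have h0 : (Formal.completion I M).map (homOfLE (le_refl n)).op = 𝟙 _ :=
      (Formal.completion I M).map_id _
    exact (congrArg (fun f => (show M ⟶ (Formal.completion I M).obj (op n) from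
      Formal.modPowπ I (n + 1) M) ≫ f) h0).trans (Category.comp_id _)
  | succ k h ih =>
    have h1 : (Formal.completion I M).map (homOfLE (h.trans (Nat.le_succ k))).op =
        (Formal.completion I M).map (homOfLE (Nat.le_succ k)).op ≫
          (Formal.completion I M).map (homOfLE h).op :=
      (Formal.completion I M).map_comp (homOfLE (Nat.le_succ k)).op (homOfLE h).op
    have h2 : (Formal.completion I M).map (homOfLE (Nat.le_succ k)).op =
        Formal.modPowTrans I (k + 1) M := Functor.ofOpSequence_map_homOfLE_succ _ k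
    have h3 : (show M ⟶ (Formal.completion I M).obj (op (k + 1)) from
        Formal.modPowπ I (k + 1 + 1) M) ≫
          (Formal.completion I M).map (homOfLE (Nat.le_succ k)).op =
        (show M ⟶ (Formal.completion I M).obj (op k) from Formal.modPowπ I (k + 1) M) :=
      (congrArg (fun f => Formal.modPowπ I (k + 1 + 1) M ≫ f) h2).trans
        (Formal.modPowπ_trans I (k + 1) M)
    refine (congrArg (fun f => (show M ⟶ (Formal.completion I M).obj (op (k + 1)) from
      Formal.modPowπ I (k + 1 + 1) M) ≫ f) h1).trans ?_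
    refine (Category.assoc _ _ _).symm.trans ?_
    exact (congrArg (fun f => f ≫ (Formal.completion I M).map (homOfLE h).op) h3).trans ih

/-- the transition maps of the system `Formal.completion I M` -/
theorem completion_map {n k : ℕ} (h : n ≤ k) :
    (Formal.completion I M).map (homOfLE h).op = modPowLE I M (Nat.succ_le_succ h) := by
  have h1 := π_completion_map I M h
  have h2 : Epi (show M ⟶ (Formal.completion I M).obj (op k) from Formal.modPowπ I (k + 1) M) :=
    inferInstanceAs (Epi (Formal.modPowπ I (k + 1) M))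
  exact (cancel_epi (show M ⟶ (Formal.completion I M).obj (op k) from
    Formal.modPowπ I (k + 1) M)).1 (h1.trans (π_modPowLE I M (Nat.succ_le_succ h)).symm)

theorem IMι_π_of_le {n k : ℕ} (h : n ≤ k) : IMι I k M ≫ Formal.modPowπ I n M = 0 := by
  rw [← π_modPowLE I M h, ← Category.assoc, IMι_π, zero_comp]

/-- the inclusion `I^k M ⟶ I^n M` for `n ≤ k` -/
noncomputable def inclLE {n k : ℕ} (h : n ≤ k) : IM I k M ⟶ IM I n M :=
  kernel.lift _ (IMι I k M) (IMι_π_of_le I M h)

@[reassoc (attr := simp)]
theorem inclLE_ι {n k : ℕ} (h : n ≤ k) : inclLE I M h ≫ IMι I n M = IMι I k M :=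
  kernel.lift_ι _ _ _

theorem inclLE_refl (n : ℕ) : inclLE I M (le_refl n) = 𝟙 _ := by
  rw [← cancel_mono (IMι I n M), inclLE_ι, Category.id_comp]

theorem inclLE_trans {n m k : ℕ} (h : n ≤ m) (h' : m ≤ k) :
    inclLE I M h' ≫ inclLE I M h = inclLE I M (h.trans h') := by
  rw [← cancel_mono (IMι I n M), Category.assoc, inclLE_ι, inclLE_ι, inclLE_ι]

/-- the morphism of short exact sequences `ses I k M ⟶ ses I n M` for `n ≤ k` -/
noncomputable def sesLE {n k : ℕ} (h : n ≤ k) : ses I k M ⟶ ses I n M where
  τ₁ := inclLE I M h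
  τ₂ := 𝟙 M
  τ₃ := modPowLE I M h
  comm₁₂ := by
    change inclLE I M h ≫ IMι I n M = IMι I k M ≫ 𝟙 M
    rw [inclLE_ι, Category.comp_id]
  comm₂₃ := by
    change 𝟙 M ≫ Formal.modPowπ I n M = Formal.modPowπ I k M ≫ modPowLE I M h
    rw [Category.id_comp, π_modPowLE]

theorem mulIM_inclLE_one {n : ℕ} (b : A) (hb : b ∈ I ^ 1) :
    mulIM I n 1 M b hb ≫ inclLE I M (Nat.le_succ n) = Formal.smulMod A (IM I n M) b := by
  rw [← cancel_mono (IMι I n M), Category.assoc, inclLE_ι, mulIM_ι]
  exact (Groth.Agent.H44.smulMod_naturality A (IMι I n M) b).symm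

end Groth.Agent.H9.FF
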