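import Mathlib
import Groth.Agent.H9.FF.IMLE
import Groth.Agent.H9.FF.HHNat
import Groth.Agent.H9.FF.FFData

/-!
# The Rees systems and the formal-functions data of an `O_X`-module (formal functions project)

For `X` over `Spec A`, `I` an ideal of `A`, `M : X.Modules`:
* `reesSys I M q : ReesSys A I` with `N n = H^q(X, I^n M)`, `W = H^q(X, M)`;
* `ffData I M p : FFData A I` with `E n = H^p(X, M / I^n M)`.
-/

set_option autoImplicit false
universe u
open CategoryTheory CategoryTheory.Limits AlgebraicGeometry Opposite TopologicalSpace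

namespace Groth.Agent.H9.FF

open Groth.Agent.Lead.FiniteLES

variable {A : Type u} [CommRing A] {X : Scheme.{u}} [X.Over (Spec (CommRingCat.of A))]
variable (I : Ideal A) (M : X.Modules)

theorem HHmap_zero {M N : X.Modules} (n : ℕ) : HHmap (0 : M ⟶ N) n = 0 := by
  have h := HHmap_add (0 : M ⟶ N) 0 n
  rw [add_zero] at h
  exact (add_eq_left.1 h.symm)

/-- the multiplication maps `I^m × H^q(I^n M) → H^q(I^(n+m) M)` -/
noncomputable def μHH (q n m : ℕ) :
    ↥(I ^ m) →ₗ[A] Coh.HH X (IM I n M) q →ₗ[A] Coh.HH X (IM I (n + m) M) q where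
  toFun b := toA A (HHmap (mulIM I n m M b b.2) q)
  map_add' b b' := by
    ext x
    change HHmap (mulIM I n m M ((b : A) + (b' : A)) (Ideal.add_mem _ b.2 b'.2)) q x =
      HHmap (mulIM I n m M b b.2) q x + HHmap (mulIM I n m M b' b'.2) q x
    rw [mulIM_add (b : A) (b' : A) b.2 b'.2, HHmap_add]
    rfl
  map_smul' c b := by
    ext x
    change HHmap (mulIM I n m M (c * (b : A)) (Ideal.mul_mem_left _ c b.2)) q x =
      c • HHmap (mulIM I n m M b b.2) q x
    rw [mulIM_smul c (b : A) b.2, HHmap_comp]
    rfl

theorem μHH_apply (q n m : ℕ) (b : ↥(I ^ m)) (x : Coh.HH X (IM I n M) q) :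
    μHH I M q n m b x = HHmap (mulIM I n m M b b.2) q x := rfl

/-- the Rees system `N n = H^q(X, I^n M)` -/
noncomputable def reesSys (q : ℕ) : ReesSys A I where
  N n := Coh.HH X (IM I n M) q
  W := Coh.HH X M q
  w n := toA A (HHmap (IMι I n M) q)
  jj n k h := toA A (HHmap (inclLE I M h) q)
  μ n m := μHH I M q n m
  jj_refl n x := by
    change HHmap (inclLE I M (le_refl n)) q x = x
    rw [inclLE_refl, HHmap_id]
    rfl
  jj_trans n m k h h' x := by
    change HHmap (inclLE I M h) q (HHmap (inclLE I M h') q x) = HHmap (inclLE I M (h.trans h')) q x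
    rw [← inclLE_trans I M h h', HHmap_comp]
    rfl
  w_jj n k h x := by
    change HHmap (IMι I n M) q (HHmap (inclLE I M h) q x) = HHmap (IMι I k M) q x
    rw [← LinearMap.comp_apply, ← HHmap_comp, inclLE_ι]
  w_μ n m b x := by
    change HHmap (IMι I (n + m) M) q (HHmap (mulIM I n m M b b.2) q x) =
      (b : A) • HHmap (IMι I n M) q x
    rw [← LinearMap.comp_apply, ← HHmap_comp, mulIM_ι, HHmap_comp]
    rfl
  jj_μ_one n b x := by
    change HHmap (inclLE I M (Nat.le_succ n)) q (HHmap (mulIM I n 1 M b b.2) q x) = (b : A) • x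
    rw [← LinearMap.comp_apply, ← HHmap_comp, mulIM_inclLE_one]
    rfl
  μ_μ n m b b' x := by
    change HHmap (mulIM I (n + m) 1 M b' b'.2) q (HHmap (mulIM I n m M b b.2) q x) =
      HHmap (mulIM I n (m + 1) M ((b : A) * b') _) q x
    rw [← LinearMap.comp_apply, ← HHmap_comp, mulIM_mulIM]
  μ_zero n b x := by
    change HHmap (mulIM I n 0 M b b.2) q x = (b : A) • x
    rw [mulIM_zero_eq]
    rfl
  kill n b hb y hy := by
    have h1 : b • y = HHmap (liftIM I n M b hb) q (HHmap (IMι I n M) q y) := by
      rw [← LinearMap.comp_apply, ← HHmap_comp, IMι_liftIM]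
      rfl
    have hy' : HHmap (IMι I n M) q y = 0 := hy
    rw [h1, hy', map_zero]

/-- the formal-functions data in degree `p` -/
noncomputable def ffData (p : ℕ) : FFData A I where
  R := reesSys I M p
  R' := reesSys I M (p + 1)
  E n := Coh.HH X (Formal.modPow I n M) p
  π n := toA A (HHmap (Formal.modPowπ I n M) p)
  δ n := toA A (HHδ (ses I n M) (ses_shortExact I n M) p)
  t n k h := toA A (HHmap (modPowLE I M h) p)
  t_refl n e := by
    change HHmap (modPowLE I M (le_refl n)) p e = e
    rw [modPowLE_refl, HHmap_id]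
    rfl
  t_trans n m k h h' e := by
    change HHmap (modPowLE I M h) p (HHmap (modPowLE I M h') p e) =
      HHmap (modPowLE I M (h.trans h')) p e
    rw [← modPowLE_trans I M h h', HHmap_comp]
    rfl
  exact_W n := by
    ext x
    have h := ker_HHmap_g (ses I n M) (ses_shortExact I n M) p
    constructor
    · intro hx
      have hx' : x ∈ LinearMap.ker (HHmap (ses I n M).g p) := hx
      rw [h] at hx'
      exact hx'
    · intro hx
      have hx' : x ∈ LinearMap.range (HHmap (ses I n M).f p) := hx
      rw [← h] at hx'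
      exact hx'
  exact_E n := by
    ext x
    have h := ker_HHδ (ses I n M) (ses_shortExact I n M) p
    constructor
    · intro hx
      have hx' : x ∈ LinearMap.ker (HHδ (ses I n M) (ses_shortExact I n M) p) := hx
      rw [h] at hx'
      exact hx'
    · intro hx
      have hx' : x ∈ LinearMap.range (HHmap (ses I n M).g p) := hx
      rw [← h] at hx'
      exact hx'
  exact_N' n := by
    ext x
    have h := ker_HHmap_f_succ (ses I n M) (ses_shortExact I n M) p
    constructor
    · intro hx
      have hx' : x ∈ LinearMap.ker (HHmap (ses I n M).f (p + 1)) := hx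
      rw [h] at hx'
      exact hx'
    · intro hx
      have hx' : x ∈ LinearMap.range (HHδ (ses I n M) (ses_shortExact I n M) p) := hx
      rw [← h] at hx'
      exact hx'
  t_π n k h x := by
    have h1 : HHmap (Formal.modPowπ I k M ≫ modPowLE I M h) p =
        (HHmap (modPowLE I M h) p).comp (HHmap (Formal.modPowπ I k M) p) := HHmap_comp _ _ p
    rw [π_modPowLE] at h1
    exact (LinearMap.congr_fun h1 x).symm
  δ_t n k h e :=
    HHδ_naturality (ses_shortExact I k M) (ses_shortExact I n M) (sesLE I M h) p e
  kill_E n b hb e := by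
    have h1 : b • e = HHmap (Formal.smulMod A (Formal.modPow I n M) b) p e := rfl
    rw [h1, smulMod_modPow_eq_zero b hb, HHmap_zero]
    rfl

end Groth.Agent.H9.FF
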