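import Mathlib
import Groth.Agent.H9.FF.ReesML

/-!
# Rees systems: the Artin–Rees corollaries for the levels `N n` themselves
-/

set_option autoImplicit false
universe u

namespace Groth.Agent.H9.FF

namespace ReesSys

variable {A : Type u} [CommRing A] {I : Ideal A} {R : ReesSys A I}

theorem gen_mono {d d' : ℕ} (h : d ≤ d') (hd : R.Gen d) : R.Gen d' :=
  fun n hn => hd n (h.trans hn)

/-- `I^m`-multiplication followed by the transition map is scalar multiplication -/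
theorem jj_μ (n m : ℕ) : ∀ (b : A) (hb : b ∈ I ^ m) (x : R.N n),
    R.jj n (n + m) (Nat.le_add_right n m) (R.μ n m ⟨b, hb⟩ x) = b • x := by
  induction m with
  | zero =>
    intro b hb x
    have : R.jj n (n + 0) (Nat.le_add_right n 0) (R.μ n 0 ⟨b, hb⟩ x) = R.μ n 0 ⟨b, hb⟩ x :=
      R.jj_refl n _
    rw [this, R.μ_zero]
  | succ m ih =>
    intro b hb x
    have hb' : b ∈ I ^ m * I := by rw [← pow_succ]; exact hb
    revert hb
    refine Submodule.mul_induction_on' (M := I ^ m) (N := I)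
      (C := fun b _ => ∀ hb : b ∈ I ^ (m + 1),
        R.jj n (n + (m + 1)) (Nat.le_add_right n (m + 1)) (R.μ n (m + 1) ⟨b, hb⟩ x) = b • x)
      ?_ ?_ hb'
    · intro c hc c' hc' hb
      have hc'1 : c' ∈ I ^ 1 := by simpa using hc'
      have e1 : R.μ n (m + 1) ⟨c * c', hb⟩ x = R.μ (n + m) 1 ⟨c', hc'1⟩ (R.μ n m ⟨c, hc⟩ x) :=
        (R.μ_μ n m ⟨c, hc⟩ ⟨c', hc'1⟩ x).symm
      have e2 : R.jj n (n + (m + 1)) (Nat.le_add_right n (m + 1))
            (R.μ (n + m) 1 ⟨c', hc'1⟩ (R.μ n m ⟨c, hc⟩ x)) =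
          R.jj n (n + m) (Nat.le_add_right n m)
            (R.jj (n + m) (n + m + 1) (Nat.le_succ (n + m))
              (R.μ (n + m) 1 ⟨c', hc'1⟩ (R.μ n m ⟨c, hc⟩ x))) :=
        (R.jj_trans n (n + m) (n + m + 1) _ _ _).symm
      rw [e1, e2, R.jj_μ_one, map_smul, ih c hc x, smul_smul, mul_comm]
    · intro b₁ hb₁ b₂ hb₂ h₁ h₂ hb
      have hb₁' : b₁ ∈ I ^ (m + 1) := by rw [pow_succ]; exact hb₁
      have hb₂' : b₂ ∈ I ^ (m + 1) := by rw [pow_succ]; exact hb₂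
      have e : (⟨b₁ + b₂, hb⟩ : ↥(I ^ (m + 1))) = ⟨b₁, hb₁'⟩ + ⟨b₂, hb₂'⟩ := rfl
      rw [e, map_add, LinearMap.add_apply, map_add, h₁ hb₁', h₂ hb₂', add_smul]

/-- the image of `N k → N n` lies in `I^(k - n) N n` as soon as `n ≥ d` -/
theorem range_jj_le_of_le {d : ℕ} (hd : R.Gen d) (n k : ℕ) (h : n ≤ k) (hn : d ≤ n) :
    LinearMap.range (R.jj n k h) ≤ I ^ (k - n) • ⊤ := by
  obtain ⟨m, rfl⟩ := Nat.exists_eq_add_of_le h
  rw [Nat.add_sub_cancel_left]
  rintro _ ⟨y, rfl⟩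
  have h1 := gen_from (gen_mono hn hd) m y
  refine Submodule.span_induction
    (p := fun y _ => R.jj n (n + m) h y ∈ I ^ m • (⊤ : Submodule A (R.N n))) ?_ ?_ ?_ ?_ h1
  · rintro _ ⟨b, x, rfl⟩
    have := jj_μ (R := R) n m b.1 b.2 x
    rw [this]
    exact Submodule.smul_mem_smul b.2 Submodule.mem_top
  · rw [map_zero]; exact Submodule.zero_mem _
  · intro x₁ x₂ _ _ h₁ h₂
    rw [map_add]; exact Submodule.add_mem _ h₁ h₂
  · intro c x₁ _ h₁
    rw [map_smul]; exact Submodule.smul_mem _ c h₁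

/-- the abstract form of `S0853` -/
theorem range_jj_le {d : ℕ} (hd : R.Gen d) (n m : ℕ) (h : d ≤ n + m) :
    LinearMap.range (R.jj n (n + m) (Nat.le_add_right n m)) ≤ I ^ (m - (d - n)) • ⊤ := by
  by_cases hn : d ≤ n
  · have h1 := range_jj_le_of_le hd n (n + m) (Nat.le_add_right n m) hn
    rw [Nat.add_sub_cancel_left] at h1
    have h2 : d - n = 0 := by omega
    rw [h2, Nat.sub_zero]
    exact h1
  · have hn' : n ≤ d := by omega
    rintro _ ⟨y, rfl⟩
    have h1 : R.jj d (n + m) h y ∈ I ^ (n + m - d) • (⊤ : Submodule A (R.N d)) :=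
      range_jj_le_of_le hd d (n + m) h le_rfl ⟨y, rfl⟩
    have h2 : n + m - d = m - (d - n) := by omega
    rw [h2] at h1
    rw [← R.jj_trans n d (n + m) hn' h y]
    have h3 : Submodule.map (R.jj n d hn') (I ^ (m - (d - n)) • (⊤ : Submodule A (R.N d))) ≤
        I ^ (m - (d - n)) • ⊤ := by
      rw [Submodule.map_smul'']
      exact Submodule.smul_mono le_rfl le_top
    exact h3 ⟨_, h1, rfl⟩

/-- the abstract form of `S0837` -/
theorem exists_Q_eq_ker_jj [IsNoetherianRing A] {d : ℕ} (hd : R.Gen d)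
    [Module.Finite A (R.N d)] :
    ∃ c : ℕ, ∀ (n : ℕ) (_ : c ≤ n), R.Q n = LinearMap.ker (R.jj (n - c) n (Nat.sub_le n c)) := by
  obtain ⟨c, hc⟩ := exists_jj_eq_zero hd
  refine ⟨c, fun n hn => ?_⟩
  ext y
  constructor
  · intro hy
    exact LinearMap.mem_ker.2 (hc (n - c) n (Nat.sub_le n c) (by omega) y hy)
  · intro hy
    rw [mem_Q, ← R.w_jj (n - c) n (Nat.sub_le n c), LinearMap.mem_ker.1 hy, map_zero]

end ReesSys

end Groth.Agent.H9.FF
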