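import Mathlib
import Groth.Agent.H9.FF.Geo
import Groth.Agent.H9.FF.ReesMore
import Groth.Prelude.Def_Formal2
import Groth.Agent.H9.FF.Complete
import Groth.Agent.H9.RpushCoh.AffineFinite
import Groth.Agent.H67.DevFilt
import Groth.Agent.H16.QCohSigma

/-!
# Dictionary between the formal-functions data and the prelude (formal functions project)

`ReesHyp I M q` is the elementary form of the finiteness of `⊕_n H^q(X, I^n M)` over the Rees
algebra: from some level `d` on, `H^q(X, I^(n+1) M)` is generated by the images of the
multiplications `b : H^q(X, I^n M) → H^q(X, I^(n+1) M)`, `b ∈ I`.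

From `ReesHyp` in degrees `p` and `p + 1` and the finiteness theorem (`FinHyp`, the statement of
`S0002`) we derive the five forms of the theorem on formal functions, literally in the shape of the
statements `S4461`, `S0057`, `S0058`, `S0059`, `S0003`.
-/

set_option autoImplicit false
universe u
open CategoryTheory CategoryTheory.Limits AlgebraicGeometry Opposite TopologicalSpace

namespace Groth.Agent.H9.FF

open Groth.Agent.Lead.FiniteLES

variable {A : Type u} [CommRing A] {X : Scheme.{u}} [X.Over (Spec (CommRingCat.of A))]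
variable (I : Ideal A) (M : X.Modules)

theorem isQuasicoherent_modPow [M.IsQuasicoherent] (n : ℕ) :
    (Formal.modPow I n M).IsQuasicoherent := by
  haveI : (∐ fun _ : ↥(I ^ n) => M).IsQuasicoherent :=
    Groth.Agent.H16.QCohSigma.isQuasicoherent_sigma _ (fun _ => inferInstance)
  exact Groth.Agent.H12.QCohAbelian.isQuasicoherent_cokernel (Formal.smulFamily (I ^ n) M)

theorem isCoh_IM [IsNoetherian X] (hM : Coh.IsCoh M) (n : ℕ) : Coh.IsCoh (IM I n M) := by
  haveI : M.IsQuasicoherent := hM.1
  exact Groth.Agent.H67.Dev.isCoh_kernel (Formal.modPowπ I n M) hM (isQuasicoherent_modPow I M n)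

theorem isCoh_modPow (hM : Coh.IsCoh M) (n : ℕ) : Coh.IsCoh (Formal.modPow I n M) := by
  haveI : M.IsQuasicoherent := hM.1
  haveI : SheafOfModules.IsFiniteType (R := X.ringCatSheaf) M := hM.2
  haveI : (Formal.modPow I n M).IsQuasicoherent := isQuasicoherent_modPow I M n
  exact ⟨isQuasicoherent_modPow I M n,
    Groth.Agent.H71.QCoh.isFiniteType_of_epi (Formal.modPowπ I n M)⟩

/-- **(REES)** in degree `q`, elementary form -/
def ReesHyp (q : ℕ) : Prop := ∃ d, (reesSys I M q).Gen d

variable {I M}

/-! ### Dictionary with the prelude -/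

theorem ker_toHHmodPow (p n : ℕ) :
    ((Formal.toHHmodPow I M p n).ker : Set (Coh.HH X M p)) =
      ((LinearMap.ker ((ffData I M p).π (n + 1)) : Submodule A (Coh.HH X M p)) :
        Set (Coh.HH X M p)) := by
  ext x
  rfl

theorem range_toHHmodPow (p n : ℕ) :
    Set.range (Formal.toHHmodPow I M p n) =
      ((LinearMap.range ((ffData I M p).π (n + 1)) :
        Submodule A (Coh.HH X (Formal.modPow I (n + 1) M) p)) : Set _) := by
  ext x
  rfl

theorem limE_eq (p : ℕ) :
    ((ffData I M p).limE : AddSubgroup (∀ n, Formal.HHmodPow I M p n)) = Formal.HHlim I M p := by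
  ext y
  have h1 : ∀ (n : ℕ) (e : Formal.HHmodPow I M p (n + 1)),
      (ffData I M p).t (n + 1) (n + 1 + 1) (Nat.le_succ _) e = Formal.HHmodPowTrans I M p n e := by
    intro n e
    change HHmap (modPowLE I M (Nat.le_succ (n + 1))) p e = _
    rw [modPowLE_succ]
    rfl
  constructor
  · intro hy n
    exact (h1 n (y (n + 1))).symm.trans (hy n)
  · intro hy n
    exact (h1 n (y (n + 1))).trans (hy n)

/-- the identification of the two inverse limits -/
noncomputable def limEquiv (p : ℕ) : (ffData I M p).limE ≃+ Formal.HHlim I M p :=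
  AddEquiv.addSubgroupCongr (limE_eq p)

theorem limEquiv_toLim (p : ℕ) (x : Coh.HH X M p) :
    limEquiv p ((ffData I M p).toLim x) = Formal.toHHlim I M p x := by
  apply Subtype.ext
  rfl

/-- **the canonical comparison map** from the `I`-adic completion of `H^p(X, M)` to the inverse
limit of the `H^p(X, M / I^(n+1) M)` -/
noncomputable def adicToHHlim (I : Ideal A) (M : X.Modules) (p : ℕ) :
    AdicCompletion I (Coh.HH X M p) →+ Formal.HHlim I M p :=
  (limEquiv p).toAddMonoidHom.comp (ffData I M p).Θ

theorem adicToHHlim_of (p : ℕ) (x : Coh.HH X M p) :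
    adicToHHlim I M p (AdicCompletion.of I (Coh.HH X M p) x) = Formal.toHHlim I M p x := by
  exact (congrArg (limEquiv p) ((ffData I M p).Θ_of x)).trans (limEquiv_toLim p x)

/-- the canonical map is determined by: the `n`-th component of the image of the class of a
Cauchy sequence `(x_k)` is the image of `x_(n+1)` in `H^p(X, M / I^(n+1) M)` -/
theorem adicToHHlim_mk (p : ℕ) (f : AdicCompletion.AdicCauchySequence I (Coh.HH X M p)) (n : ℕ) :
    (adicToHHlim I M p (AdicCompletion.mk I _ f)).1 n = Formal.toHHmodPow I M p n (f (n + 1)) :=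
  rfl

/-- the canonical map is `A`-linear (componentwise) -/
theorem adicToHHlim_smul (p : ℕ) (a : A) (f : AdicCompletion I (Coh.HH X M p)) (n : ℕ) :
    (adicToHHlim I M p (a • f)).1 n = a • (adicToHHlim I M p f).1 n := by
  have h1 : (a • f).val (n + 1) = a • f.val (n + 1) := AdicCompletion.val_smul_apply a f (n + 1)
  exact (congrArg ((ffData I M p).πbar (n + 1)) h1).trans
    (map_smul ((ffData I M p).πbar (n + 1)) a (f.val (n + 1)))

end Groth.Agent.H9.FF
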