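import Mathlib
import Groth.Agent.H9.FF.Dict

/-!
# The theorem on formal functions from (REES) and finiteness (formal functions project)

From `ReesHyp` in degrees `p` and `p + 1` and the finiteness theorem (`FinHyp`, the statement of
`S0002`) we derive the forms of the theorem on formal functions, literally in the shape of the
statements `S4461`, `S0057`, `S0058`, `S0059`, `S0003`, `S0837`, `S0853`.
-/

set_option autoImplicit false
universe u
open CategoryTheory CategoryTheory.Limits AlgebraicGeometry Opposite TopologicalSpace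

namespace Groth.Agent.H9.FF

open Groth.Agent.Lead.FiniteLES

variable {A : Type u} [CommRing A] {X : Scheme.{u}} [X.Over (Spec (CommRingCat.of A))]
variable {I : Ideal A} {M : X.Modules}

/-! ### The main theorems -/

section main

variable [IsNoetherianRing A] [IsProper (X ↘ Spec (CommRingCat.of A))]

include A in
theorem isNoetherian_of_proper : IsNoetherian X := by
  haveI : IsLocallyNoetherian X :=
    LocallyOfFiniteType.isLocallyNoetherian (X ↘ Spec (CommRingCat.of A))
  haveI : CompactSpace X :=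
    QuasiCompact.compactSpace_of_compactSpace (X ↘ Spec (CommRingCat.of A))
  exact {}

theorem exists_ML (h2 : Groth.Agent.H9.RpushCoh.FinHyp.{u}) (hM : Coh.IsCoh M) (p : ℕ)
    (hR' : ReesHyp I M (p + 1)) : ∃ c, (ffData I M p).ML c := by
  obtain ⟨d', hd'⟩ := hR'
  haveI : IsNoetherian X := isNoetherian_of_proper (A := A)
  haveI : Module.Finite A ((ffData I M p).R'.N d') :=
    h2 A X (IM I d' M) (isCoh_IM I M hM d') (p + 1)
  exact (ffData I M p).exists_ML hd'

/-- `S4461` from (REES) -/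
theorem good_filtration (p : ℕ) (hR : ReesHyp I M p) :
    ∃ k₀ : ℕ, ∀ k : ℕ, k₀ ≤ k →
      ((Formal.toHHmodPow I M p (k + 1)).ker : Set (Coh.HH X M p)) =
        ((I • Submodule.span A ((Formal.toHHmodPow I M p k).ker : Set (Coh.HH X M p)) :
          Submodule A (Coh.HH X M p)) : Set (Coh.HH X M p)) := by
  obtain ⟨d, hd⟩ := hR
  refine ⟨d, fun k hk => ?_⟩
  rw [ker_toHHmodPow, ker_toHHmodPow, Submodule.span_eq]
  exact congrArg (fun S : Submodule A (Coh.HH X M p) => (S : Set (Coh.HH X M p)))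
    ((ffData I M p).ker_π_succ hd (k + 1) (by omega))

/-- `S0057` from (REES) -/
theorem ker_subset_pow_smul (p : ℕ) (hR : ReesHyp I M p) :
    ∃ c : ℕ, ∀ n : ℕ, c ≤ n →
      ((Formal.toHHmodPow I M p n).ker : Set (Coh.HH X M p)) ⊆
        ((I ^ (n - c) • (⊤ : Submodule A (Coh.HH X M p)) : Submodule A (Coh.HH X M p)) :
          Set (Coh.HH X M p)) := by
  obtain ⟨d, hd⟩ := hR
  refine ⟨d, fun n hn => ?_⟩
  obtain ⟨m, rfl⟩ := Nat.exists_eq_add_of_le hn
  rw [ker_toHHmodPow, Nat.add_sub_cancel_left]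
  intro x hx
  have h1 : x ∈ I ^ (m + 1) • (⊤ : Submodule A (Coh.HH X M p)) :=
    (ffData I M p).ker_π_add_le hd (m + 1) hx
  exact Submodule.smul_mono_left (Ideal.pow_le_pow_right (Nat.le_succ m)) h1

/-- `S0058` from (REES) and finiteness -/
theorem uniform_ML (h2 : Groth.Agent.H9.RpushCoh.FinHyp.{u}) (hM : Coh.IsCoh M) (p : ℕ)
    (hR' : ReesHyp I M (p + 1)) :
    ∃ c : ℕ, ∀ (n k : ℕ) (h : n ≤ k), n + c ≤ k →
      Set.range (Sheaf.H.map ((SheafOfModules.toSheaf X.ringCatSheaf).map
        ((Formal.completion I M).map (homOfLE h).op)) p) =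
          Set.range (Formal.toHHmodPow I M p n) := by
  obtain ⟨c, hc⟩ := exists_ML h2 hM p hR'
  refine ⟨c, fun n k h hk => ?_⟩
  have h1 := (ffData I M p).range_t hc (n + 1) (k + 1) (Nat.succ_le_succ h) (by omega)
  rw [range_toHHmodPow]
  refine Eq.trans ?_ (congrArg (fun S : Submodule A (Coh.HH X (Formal.modPow I (n + 1) M) p) =>
    (S : Set (Coh.HH X (Formal.modPow I (n + 1) M) p))) h1)
  rw [completion_map I M h]
  ext x
  rfl

/-- the canonical map `AdicCompletion I (H^p(X, M)) → lim_n H^p(X, M / I^(n+1) M)` is bijective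
(**theorem on formal functions**, canonical form) -/
theorem adicToHHlim_bijective (h2 : Groth.Agent.H9.RpushCoh.FinHyp.{u}) (hM : Coh.IsCoh M)
    (p : ℕ) (hR : ReesHyp I M p) (hR' : ReesHyp I M (p + 1)) :
    Function.Bijective (adicToHHlim I M p) := by
  obtain ⟨d, hd⟩ := hR
  obtain ⟨c, hc⟩ := exists_ML h2 hM p hR'
  exact (limEquiv p).bijective.comp
    ⟨(ffData I M p).Θ_injective hd, (ffData I M p).Θ_surjective hd hc⟩

/-- `S0059` from (REES) and finiteness -/
theorem nonempty_adicEquiv (h2 : Groth.Agent.H9.RpushCoh.FinHyp.{u}) (hM : Coh.IsCoh M)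
    (p : ℕ) (hR : ReesHyp I M p) (hR' : ReesHyp I M (p + 1)) :
    Nonempty (AdicCompletion I (Coh.HH X M p) ≃+ Formal.HHlim I M p) :=
  ⟨AddEquiv.ofBijective (adicToHHlim I M p) (adicToHHlim_bijective h2 hM p hR hR')⟩

/-- `S0003` from (REES) and finiteness -/
theorem toHHlim_bijective [IsAdicComplete I A] (h2 : Groth.Agent.H9.RpushCoh.FinHyp.{u})
    (hM : Coh.IsCoh M) (p : ℕ) (hR : ReesHyp I M p) (hR' : ReesHyp I M (p + 1)) :
    Function.Bijective (Formal.toHHlim I M p) := by
  haveI : Module.Finite A (Coh.HH X M p) := h2 A X M hM p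
  haveI : IsAdicComplete I (Coh.HH X M p) := isAdicComplete_of_finite I _
  have h1 : (Formal.toHHlim I M p : Coh.HH X M p → Formal.HHlim I M p) =
      adicToHHlim I M p ∘ AdicCompletion.of I (Coh.HH X M p) := by
    funext x
    exact (adicToHHlim_of p x).symm
  rw [h1]
  exact (adicToHHlim_bijective h2 hM p hR hR').comp (AdicCompletion.of_bijective I _)

/-- `S0853` from (REES) -/
theorem range_idealPowIncl_subset (p : ℕ) (hR : ReesHyp I M p) :
    ∃ c : ℕ, ∀ (n m : ℕ), c ≤ n + m →
      Set.range (Sheaf.H.map ((SheafOfModules.toSheaf X.ringCatSheaf).map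
        (Formal2.idealPowIncl I (Nat.le_add_right n m) M)) p) ⊆
        SetLike.coe (I ^ (m - (c - n)) •
          (⊤ : Submodule A (Coh.HH X (Formal2.idealPowMod I n M) p))) := by
  obtain ⟨d, hd⟩ := hR
  refine ⟨d, fun n m h => ?_⟩
  rintro _ ⟨y, rfl⟩
  exact ReesSys.range_jj_le hd n m h ⟨y, rfl⟩

/-- `S0837` from (REES) and finiteness -/
theorem ker_idealPowModι_eq (h2 : Groth.Agent.H9.RpushCoh.FinHyp.{u}) (hM : Coh.IsCoh M) (p : ℕ)
    (hR : ReesHyp I M p) :
    ∃ c : ℕ, ∀ (n : ℕ) (_ : c ≤ n),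
      (Sheaf.H.map ((SheafOfModules.toSheaf X.ringCatSheaf).map
        (Formal2.idealPowModι I n M)) p).ker =
        (Sheaf.H.map ((SheafOfModules.toSheaf X.ringCatSheaf).map
          (Formal2.idealPowIncl I (Nat.sub_le n c) M)) p).ker := by
  obtain ⟨d, hd⟩ := hR
  haveI : IsNoetherian X := isNoetherian_of_proper (A := A)
  haveI : Module.Finite A ((reesSys I M p).N d) := h2 A X (IM I d M) (isCoh_IM I M hM d) p
  obtain ⟨c, hc⟩ := ReesSys.exists_Q_eq_ker_jj hd
  refine ⟨c, fun n hn => ?_⟩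
  have h1 := hc n hn
  ext y
  have h3 : y ∈ (reesSys I M p).Q n ↔
      y ∈ LinearMap.ker ((reesSys I M p).jj (n - c) n (Nat.sub_le n c)) := by rw [h1]
  exact h3

end main

end Groth.Agent.H9.FF
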