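import Mathlib
import Groth.Agent.H9.FF.Main
import Groth.Prelude.Def_ega3

/-!
# From the statement of `S2435` to `ReesHyp` (formal functions project)

`CohIII.idealMul J M = Limits.image (Formal.smulFamily J M)` and
`IM I n M = kernel (Formal.modPowπ I n M) = Abelian.image (Formal.smulFamily (I^n) M)` are
isomorphic as subobjects of `M` when `J = I^n`, compatibly with the multiplication maps.
Hence the conclusion of `S2435` (for `r = 1`) gives `ReesHyp`.
-/

set_option autoImplicit false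
universe u
open CategoryTheory CategoryTheory.Limits AlgebraicGeometry Opposite TopologicalSpace

namespace Groth.Agent.H9.FF

open Groth.Agent.Lead.FiniteLES

variable {A : Type u} [CommRing A] {X : Scheme.{u}} [X.Over (Spec (CommRingCat.of A))]
variable (I : Ideal A) (M : X.Modules)

theorem exists_idealMul_iso (J : Ideal A) (n : ℕ) (h : J = I ^ n) :
    ∃ e : CohIII.idealMul J M ≅ IM I n M, e.hom ≫ IMι I n M = CohIII.idealMulι J M := by
  subst h
  refine ⟨(Abelian.imageIsoImage (Formal.smulFamily (I ^ n) M)).symm, ?_⟩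
  exact ((Abelian.imageIsoImage (Formal.smulFamily (I ^ n) M)).inv_comp_eq).2
    (Abelian.imageIsoImage_hom_comp_image_ι (Formal.smulFamily (I ^ n) M)).symm

theorem mulMap_ι' (I' J : Ideal A) (a : I') :
    CohIII.mulMap I' J M a ≫ CohIII.idealMulι (I' * J) M =
      CohIII.idealMulι J M ≫ Formal.smulMod A M (a : A) :=
  image.map_ι (CohIII.mulSq I' J M a)

/-- the shape of the conclusion of `S2435` (for the module `M` and the degree `q`) -/
def S2435Shape (q : ℕ) : Prop :=
  ∃ k₀ : ℕ, ∀ k : ℕ, k₀ ≤ k → ∀ r : ℕ,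
    (⨆ a : ↥(I ^ r), (CohIII.HmulMap (I ^ r) (I ^ k) M a q).range) = ⊤

variable {I M}

/-- **the bridge**: the conclusion of `S2435` gives `ReesHyp` -/
theorem reesHyp_of_shape (q : ℕ) (h : S2435Shape I M q) : ReesHyp I M q := by
  obtain ⟨k₀, hk⟩ := h
  refine ⟨k₀, fun n hn y => ?_⟩
  obtain ⟨α, hα⟩ := exists_idealMul_iso I M (I ^ n) n rfl
  obtain ⟨β, hβ⟩ := exists_idealMul_iso I M (I ^ 1 * I ^ n) (n + 1) (by rw [← pow_add, add_comm])
  have hcomm : ∀ a : ↥(I ^ 1),
      CohIII.mulMap (I ^ 1) (I ^ n) M a ≫ β.hom = α.hom ≫ mulIM I n 1 M a a.2 := by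
    intro a
    rw [← cancel_mono (IMι I (n + 1) M), Category.assoc, hβ, Category.assoc, mulIM_ι,
      ← Category.assoc, hα, mulMap_ι']
  have h1 : HHmap β.inv q y ∈
      (⨆ a : ↥(I ^ 1), (CohIII.HmulMap (I ^ 1) (I ^ n) M a q).range) := by
    rw [hk n hn 1]
    trivial
  have h2 : HHmap β.hom q (HHmap β.inv q y) ∈
      Submodule.span A {z | ∃ (b : ↥(I ^ 1)) (x : (reesSys I M q).N n),
        z = (reesSys I M q).μ n 1 b x} := by
    refine AddSubgroup.iSup_induction
      (S := fun a : ↥(I ^ 1) => (CohIII.HmulMap (I ^ 1) (I ^ n) M a q).range)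
      (C := fun z => HHmap β.hom q z ∈
        Submodule.span A {z | ∃ (b : ↥(I ^ 1)) (x : (reesSys I M q).N n),
          z = (reesSys I M q).μ n 1 b x}) h1 ?_ ?_ ?_
    · rintro a _ ⟨x, rfl⟩
      refine Submodule.subset_span ⟨a, HHmap α.hom q x, ?_⟩
      have e1 : HHmap (CohIII.mulMap (I ^ 1) (I ^ n) M a ≫ β.hom) q =
          (HHmap β.hom q).comp (HHmap (CohIII.mulMap (I ^ 1) (I ^ n) M a) q) := HHmap_comp _ _ q
      have e2 : HHmap (α.hom ≫ mulIM I n 1 M a a.2) q =
          (HHmap (mulIM I n 1 M a a.2) q).comp (HHmap α.hom q) := HHmap_comp _ _ q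
      rw [hcomm a] at e1
      exact (LinearMap.congr_fun e1 x).symm.trans (LinearMap.congr_fun e2 x)
    · rw [map_zero]
      exact Submodule.zero_mem _
    · intro z₁ z₂ h₁ h₂
      rw [map_add]
      exact Submodule.add_mem _ h₁ h₂
  have h3 : HHmap β.hom q (HHmap β.inv q y) = y := by
    have e3 : HHmap (β.inv ≫ β.hom) q = (HHmap β.hom q).comp (HHmap β.inv q) := HHmap_comp _ _ q
    rw [β.inv_hom_id, HHmap_id] at e3
    exact (LinearMap.congr_fun e3 y).symm
  rw [h3] at h2
  exact h2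

end Groth.Agent.H9.FF
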