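import Mathlib
import Groth.Agent.H9.FF.Main
import Groth.Agent.H44.PullbackFT
import Groth.Prelude.Def_FlatMod2

/-!
# Formal functions for the stalks of `R^p f_* F` (formal functions project)

The statement of `S4467`, from: finiteness (`FinHyp`), (REES) on the base change to the local ring,
and the identification (LOC) of the stalk of `R^p f_* F` at `y` with the cohomology of the base
change to `Spec O_{Y,y}`.
-/

set_option autoImplicit false
universe u
open CategoryTheory CategoryTheory.Limits AlgebraicGeometry Opposite TopologicalSpace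

namespace Groth.Agent.H9.FF

theorem isCoh_pullback {X Y : Scheme.{u}} (g : X ⟶ Y) (F : Y.Modules) (hF : Coh.IsCoh F) :
    Coh.IsCoh ((Scheme.Modules.pullback g).obj F) := by
  haveI : F.IsQuasicoherent := hF.1
  haveI : SheafOfModules.IsFiniteType (R := Y.ringCatSheaf) F := hF.2
  exact ⟨inferInstance, inferInstance⟩

/-- the statement of `S4467`, from (LOC), finiteness and (REES) -/
theorem stalk_formal_functions (h2 : Groth.Agent.H9.RpushCoh.FinHyp.{u})
    {X Y : Scheme.{u}} (f : X ⟶ Y)
    [IsProper f] [IsLocallyNoetherian Y] [CategoryTheory.HasInjectiveResolutions X.Modules]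
    (F : X.Modules) (hF : Coh.IsCoh F) (y : Y) (p : ℕ)
    (X₁ : Scheme.{u}) [X₁.Over (Spec (CommRingCat.of (Y.presheaf.stalk y)))] (g : X₁ ⟶ X)
    (hsq : IsPullback g (X₁ ↘ Spec (CommRingCat.of (Y.presheaf.stalk y))) f (Y.fromSpecStalk y))
    (hloc : Nonempty ((((Coh.Rpush f p).obj F).presheaf.stalk y) ≃ₗ[Y.presheaf.stalk y]
      Coh.HH X₁ ((Scheme.Modules.pullback g).obj F) p))
    (hR : ReesHyp (IsLocalRing.maximalIdeal (Y.presheaf.stalk y))
      ((Scheme.Modules.pullback g).obj F) p)
    (hR' : ReesHyp (IsLocalRing.maximalIdeal (Y.presheaf.stalk y))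
      ((Scheme.Modules.pullback g).obj F) (p + 1)) :
    Module.Finite (Y.presheaf.stalk y) (((Coh.Rpush f p).obj F).presheaf.stalk y) ∧
    Nonempty (AdicCompletion (IsLocalRing.maximalIdeal (Y.presheaf.stalk y))
        (((Coh.Rpush f p).obj F).presheaf.stalk y) ≃+
      Formal.HHlim (IsLocalRing.maximalIdeal (Y.presheaf.stalk y))
        ((Scheme.Modules.pullback g).obj F) p) := by
  obtain ⟨e⟩ := hloc
  haveI : IsProper (X₁ ↘ Spec (CommRingCat.of (Y.presheaf.stalk y))) :=
    MorphismProperty.of_isPullback (P := @IsProper) hsq inferInstance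
  have hF₁ : Coh.IsCoh ((Scheme.Modules.pullback g).obj F) := isCoh_pullback g F hF
  haveI hfin : Module.Finite (Y.presheaf.stalk y)
      (Coh.HH X₁ ((Scheme.Modules.pullback g).obj F) p) :=
    h2 (Y.presheaf.stalk y) X₁ _ hF₁ p
  refine ⟨Module.Finite.equiv e.symm, ?_⟩
  obtain ⟨e'⟩ := nonempty_adicEquiv (I := IsLocalRing.maximalIdeal (Y.presheaf.stalk y))
    h2 hF₁ p hR hR'
  exact ⟨(AdicCompletion.congr (IsLocalRing.maximalIdeal (Y.presheaf.stalk y)) e).toAddEquiv.trans
    e'⟩

end Groth.Agent.H9.FF
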