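import Mathlib
import Groth.Agent.H9.FF.StalkFF
import Groth.Agent.H9.RpushCoh.Main
import Groth.Agent.H44.OmegaFitting
import Groth.Agent.H71.QCoh.SupportProper

/-!
# Vanishing of `R^p f_* F` near a point from the vanishing of the formal limit

The statement of `S7844`, from (LOC), finiteness and (REES).
-/

set_option autoImplicit false
universe u
open CategoryTheory CategoryTheory.Limits AlgebraicGeometry Opposite TopologicalSpace

namespace Groth.Agent.H9.FF

/-- a finite module over a Noetherian local ring with trivial completion is trivial -/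
theorem subsingleton_of_subsingleton_adicCompletion {R : Type u} [CommRing R] [IsLocalRing R]
    [IsNoetherianRing R] (M : Type u) [AddCommGroup M] [Module R M] [Module.Finite R M]
    (h : Subsingleton (AdicCompletion (IsLocalRing.maximalIdeal R) M)) : Subsingleton M := by
  haveI : IsHausdorff (IsLocalRing.maximalIdeal R) M :=
    IsHausdorff.of_le_jacobson _ M (IsLocalRing.maximalIdeal_le_jacobson ⊥)
  refine ⟨fun a b => ?_⟩
  apply AdicCompletion.of_injective (IsLocalRing.maximalIdeal R) M
  exact Subsingleton.elim _ _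

/-- a coherent module with trivial stalk at `s` vanishes on a neighbourhood of `s` -/
theorem exists_isZero_restrict {S : Scheme.{u}} (N : S.Modules) (hN : Coh.IsCoh N) (s : S)
    (h : Subsingleton (N.presheaf.stalk s)) :
    ∃ V : S.Opens, s ∈ V ∧ Limits.IsZero (N.restrict V.ι) := by
  haveI : N.IsQuasicoherent := hN.1
  haveI : SheafOfModules.IsFiniteType (R := S.ringCatSheaf) N := hN.2
  have hcl : IsClosed (CohB1.support N) := Groth.Agent.H71.QCoh.isClosed_support N
  refine ⟨⟨(CohB1.support N)ᶜ, hcl.isOpen_compl⟩, fun hs => hs h, ?_⟩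
  refine Groth.Agent.H44.isZero_restrict_of_subsingleton_stalk N _ (fun y hy => ?_)
  by_contra hy'
  exact hy hy'

/-- the statement of `S7844`, from (LOC), finiteness and (REES) -/
theorem exists_isZero_restrict_rpush (h2 : Groth.Agent.H9.RpushCoh.FinHyp.{u})
    {X S : Scheme.{u}} (f : X ⟶ S)
    [IsProper f] [IsLocallyNoetherian S] [CategoryTheory.HasInjectiveResolutions X.Modules]
    (F : X.Modules) (hF : Coh.IsCoh F) (s : S) (p : ℕ)
    (X₁ : Scheme.{u}) [X₁.Over (Spec (CommRingCat.of (S.presheaf.stalk s)))] (g : X₁ ⟶ X)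
    (hsq : IsPullback g (X₁ ↘ Spec (CommRingCat.of (S.presheaf.stalk s))) f (S.fromSpecStalk s))
    (hloc : Nonempty ((((Coh.Rpush f p).obj F).presheaf.stalk s) ≃ₗ[S.presheaf.stalk s]
      Coh.HH X₁ ((Scheme.Modules.pullback g).obj F) p))
    (hR : ReesHyp (IsLocalRing.maximalIdeal (S.presheaf.stalk s))
      ((Scheme.Modules.pullback g).obj F) p)
    (hR' : ReesHyp (IsLocalRing.maximalIdeal (S.presheaf.stalk s))
      ((Scheme.Modules.pullback g).obj F) (p + 1))
    (hlim : Formal.HHlim (IsLocalRing.maximalIdeal (S.presheaf.stalk s))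
      ((Scheme.Modules.pullback g).obj F) p = ⊥) :
    ∃ V : S.Opens, s ∈ V ∧ Limits.IsZero ((((Coh.Rpush f p).obj F)).restrict V.ι) := by
  obtain ⟨hfin, ⟨e⟩⟩ := stalk_formal_functions h2 f F hF s p X₁ g hsq hloc hR hR'
  haveI := hfin
  have h1 : Subsingleton (Formal.HHlim (IsLocalRing.maximalIdeal (S.presheaf.stalk s))
      ((Scheme.Modules.pullback g).obj F) p) := by
    rw [hlim]
    infer_instance
  have h3 : Subsingleton (AdicCompletion (IsLocalRing.maximalIdeal (S.presheaf.stalk s))
      (((Coh.Rpush f p).obj F).presheaf.stalk s)) := e.toEquiv.subsingleton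
  have h4 : Subsingleton (((Coh.Rpush f p).obj F).presheaf.stalk s) :=
    subsingleton_of_subsingleton_adicCompletion _ h3
  exact exists_isZero_restrict _ (Groth.Agent.H9.RpushCoh.isCoh_rpush f F p h2 hF) s h4

end Groth.Agent.H9.FF
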